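import Groth.Agent.Lib.Hensel.Hull
import Mathlib.LinearAlgebra.TensorProduct.RightExactness
import Mathlib.LinearAlgebra.DirectSum.Finsupp
import Mathlib.RingTheory.Unramified.Finite
import Mathlib.RingTheory.Flat.Basic
import Mathlib.RingTheory.Jacobson.Ideal

/-!
Algebra used for etale maps of finite groupoids: tensor products with hulls, maps out of unramified
algebras, invariants after flat base change.
-/

universe u

open CategoryTheory TensorProduct

namespace GrothLib.GrpdEtale13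

open GrothLib.Hensel

section Stage

variable {A C : Type u} [CommRing A] [CommRing C] [Algebra A C]
  {Q : Type u} [AddCommMonoid Q] [Module A Q]

theorem lTensor_ι_map {N M : Nbhd A C} (f : N ⟶ M) (ξ : Q ⊗[A] N.Ring) :
    (Hull.ι M).toLinearMap.lTensor Q (f.map.toLinearMap.lTensor Q ξ) =
      (Hull.ι N).toLinearMap.lTensor Q ξ := by
  induction ξ with
  | zero => simp
  | tmul a b => simp [Hull.ι_map]
  | add x y hx hy => simp only [map_add, hx, hy]

theorem lTensor_map_map {N M L : Nbhd A C} (f : N ⟶ M) (g : M ⟶ L) (ξ : Q ⊗[A] N.Ring) :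
    g.map.toLinearMap.lTensor Q (f.map.toLinearMap.lTensor Q ξ) =
      (f ≫ g).map.toLinearMap.lTensor Q ξ := by
  rw [← LinearMap.comp_apply, ← LinearMap.lTensor_comp]
  rfl

theorem lTensor_rTensor_comm {R : Type u} [CommRing R] {P P' Q₁ Q₂ : Type u} [AddCommMonoid P]
    [Module R P] [AddCommMonoid P'] [Module R P'] [AddCommMonoid Q₁] [Module R Q₁] [AddCommMonoid Q₂]
    [Module R Q₂] (ψ : Q₁ →ₗ[R] Q₂) (φ : P →ₗ[R] P') (z : Q₁ ⊗[R] P) :
    φ.lTensor Q₂ (ψ.rTensor P z) = ψ.rTensor P' (φ.lTensor Q₁ z) := by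
  induction z with
  | zero => simp
  | tmul a b => simp
  | add x y hx hy => simp only [map_add, hx, hy]

theorem exists_stage_lTensor (ξ : Q ⊗[A] Hull A C) :
    ∃ (N : Nbhd A C) (ξ₀ : Q ⊗[A] N.Ring), (Hull.ι N).toLinearMap.lTensor Q ξ₀ = ξ := by
  induction ξ with
  | zero => exact ⟨Classical.arbitrary _, 0, map_zero _⟩
  | tmul q z =>
    obtain ⟨N, a, rfl⟩ := Hull.exists_ι z
    exact ⟨N, q ⊗ₜ a, by simp⟩
  | add x y hx hy =>
    obtain ⟨N, x₀, rfl⟩ := hx
    obtain ⟨M, y₀, rfl⟩ := hy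
    obtain ⟨K, f, g, -⟩ := IsFilteredOrEmpty.cocone_objs N M
    exact ⟨K, f.map.toLinearMap.lTensor Q x₀ + g.map.toLinearMap.lTensor Q y₀, by
      rw [map_add, lTensor_ι_map, lTensor_ι_map]⟩

theorem exists_common_map_eq_zero {N : Nbhd A C} {σ : Type*} (s : Finset σ) (a : σ → N.Ring)
    (h : ∀ i ∈ s, Hull.ι N (a i) = 0) : ∃ (M : Nbhd A C) (f : N ⟶ M), ∀ i ∈ s, f.map (a i) = 0 := by
  classical
  induction s using Finset.induction_on with
  | empty => exact ⟨N, 𝟙 N, by simp⟩
  | insert i s _ ih =>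
    obtain ⟨M, f, hf⟩ := ih fun j hj => h j (Finset.mem_insert_of_mem hj)
    obtain ⟨L, g, hg⟩ := Hull.exists_map_eq_zero (a := f.map (a i))
      (by rw [Hull.ι_map]; exact h i (Finset.mem_insert_self i s))
    refine ⟨L, f ≫ g, fun j hj => ?_⟩
    show g.map (f.map (a j)) = 0
    rcases Finset.mem_insert.1 hj with rfl | hj
    · exact hg
    · rw [hf j hj, map_zero]

theorem exists_stage_eq_zero_finsupp {ι₀ : Type u} {N : Nbhd A C} (ζ : (ι₀ →₀ A) ⊗[A] N.Ring)
    (h : (Hull.ι N).toLinearMap.lTensor _ ζ = 0) :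
    ∃ (M : Nbhd A C) (f : N ⟶ M), f.map.toLinearMap.lTensor _ ζ = 0 := by
  classical
  have hnat : ∀ {P : Type u} [CommRing P] [Algebra A P] (φ : N.Ring →ₐ[A] P) (i : ι₀),
      finsuppScalarLeft A P ι₀ (φ.toLinearMap.lTensor _ ζ) i =
        φ (finsuppScalarLeft A N.Ring ι₀ ζ i) := by
    intro P _ _ φ i
    clear h
    induction ζ with
    | zero => simp
    | tmul p n => simp
    | add x y hx hy => simp [hx, hy, map_add]
  obtain ⟨M, f, hf⟩ := exists_common_map_eq_zero (finsuppScalarLeft A N.Ring ι₀ ζ).support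
    (fun i => finsuppScalarLeft A N.Ring ι₀ ζ i) fun i _ => by rw [← hnat, h]; simp
  refine ⟨M, f, (finsuppScalarLeft A M.Ring ι₀).injective (Finsupp.ext fun i => ?_)⟩
  rw [hnat, map_zero, Finsupp.zero_apply]
  by_cases hi : i ∈ (finsuppScalarLeft A N.Ring ι₀ ζ).support
  · exact hf i hi
  · rw [Finsupp.notMem_support_iff.mp hi, map_zero]

theorem exists_stage_eq_zero {Q : Type u} [AddCommGroup Q] [Module A Q] {N : Nbhd A C} (ξ : Q ⊗[A] N.Ring)
    (h : (Hull.ι N).toLinearMap.lTensor Q ξ = 0) :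
    ∃ (M : Nbhd A C) (f : N ⟶ M), f.map.toLinearMap.lTensor Q ξ = 0 := by
  let π : (Q →₀ A) →ₗ[A] Q := Finsupp.linearCombination A id
  have hπ : Function.Surjective π := fun q => ⟨Finsupp.single q 1, by simp [π]⟩
  let i : LinearMap.ker π →ₗ[A] (Q →₀ A) := (LinearMap.ker π).subtype
  have hex : Function.Exact i π := fun x => ⟨fun hx => ⟨⟨x, hx⟩, rfl⟩, by rintro ⟨y, rfl⟩; exact y.2⟩
  obtain ⟨ξ', rfl⟩ := LinearMap.rTensor_surjective N.Ring hπ ξ
  rw [lTensor_rTensor_comm] at h
  obtain ⟨η, hη⟩ := (_root_.rTensor_exact (M := LinearMap.ker π) (f := i) (Hull A C) hex hπ _).mp h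
  obtain ⟨N', η₀, rfl⟩ := exists_stage_lTensor (Q := LinearMap.ker π) η
  obtain ⟨K, f, g, -⟩ := IsFilteredOrEmpty.cocone_objs N N'
  obtain ⟨M, k, hk⟩ := exists_stage_eq_zero_finsupp (N := K)
    (f.map.toLinearMap.lTensor _ ξ' - i.rTensor K.Ring (g.map.toLinearMap.lTensor _ η₀)) (by
      rw [map_sub, lTensor_ι_map, lTensor_rTensor_comm, lTensor_ι_map, hη, sub_self])
  refine ⟨M, f ≫ k, ?_⟩
  rw [map_sub, sub_eq_zero, lTensor_rTensor_comm i k.map.toLinearMap] at hk
  rw [lTensor_rTensor_comm, ← lTensor_map_map f k, hk]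
  rw [← LinearMap.comp_apply, ← LinearMap.rTensor_comp,
    show π ∘ₗ i = 0 from LinearMap.ext fun y => y.2, LinearMap.rTensor_zero, LinearMap.zero_apply]

end Stage

/-- Maps out of an unramified algebra agreeing at all closed points are equal. -/
theorem algHom_ext_of_maximal {R S T : Type u} [CommRing R] [CommRing S] [CommRing T] [Algebra R S]
    [Algebra R T] [Algebra.FormallyUnramified R S] [Algebra.EssFiniteType R S] (f g : S →ₐ[R] T)
    (h : ∀ M : Ideal T, M.IsMaximal → ∀ x, f x - g x ∈ M) : f = g := by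
  let Φ := Algebra.TensorProduct.productMap f g
  have h2 : ∀ (M : Ideal T), M.IsMaximal → ∀ z : S ⊗[R] S,
      Φ z - f (Algebra.TensorProduct.lmul' R z) ∈ M := by
    intro M hM z
    induction z with
    | zero => simp
    | tmul a b =>
      simp only [Φ, Algebra.TensorProduct.productMap_apply_tmul, Algebra.TensorProduct.lmul'_apply_tmul,
        map_mul]
      rw [show f a * g b - f a * f b = -(f a * (f b - g b)) by ring]
      exact neg_mem (M.mul_mem_left _ (h M hM b))
    | add x y hx hy =>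
      simp only [map_add]
      convert M.add_mem hx hy using 1
      ring
  have hu : IsUnit (Φ (Algebra.FormallyUnramified.elem R S)) := by
    by_contra hn
    obtain ⟨M, hM, hmem⟩ := exists_max_ideal_of_mem_nonunits hn
    have := h2 M hM (Algebra.FormallyUnramified.elem R S)
    rw [Algebra.FormallyUnramified.lmul_elem, map_one] at this
    exact hM.ne_top ((Ideal.eq_top_iff_one M).mpr (by simpa using M.sub_mem hmem this))
  ext x
  have := congrArg Φ (Algebra.FormallyUnramified.one_tmul_mul_elem (R := R) x)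
  rw [map_mul, map_mul] at this
  have h1 : g x * Φ (Algebra.FormallyUnramified.elem R S) =
      f x * Φ (Algebra.FormallyUnramified.elem R S) := by simpa [Φ] using this
  exact (hu.mul_right_cancel h1).symm

/-- Equalizers commute with flat base change. -/
theorem injective_and_eqLocus_of_flat {R P Q W : Type u} [CommRing R] [AddCommGroup P] [Module R P]
    [AddCommGroup Q] [Module R Q] [AddCommGroup W] [Module R W] (M : Type u) [AddCommGroup M] [Module R M]
    [Module.Flat R M] (i : P →ₗ[R] Q) (f g : Q →ₗ[R] W) (hi : Function.Injective i)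
    (hfg : ∀ q, f q = g q ↔ q ∈ LinearMap.range i) :
    Function.Injective (i.rTensor M) ∧
      ∀ ξ, f.rTensor M ξ = g.rTensor M ξ → ξ ∈ LinearMap.range (i.rTensor M) := by
  refine ⟨Module.Flat.rTensor_preserves_injective_linearMap i hi, fun ξ hξ => ?_⟩
  have hexact : Function.Exact i (f - g) := fun q => by
    rw [LinearMap.sub_apply, sub_eq_zero, hfg]
    rfl
  exact (Module.Flat.rTensor_exact M hexact ξ).mp (by
    rw [LinearMap.rTensor_sub, LinearMap.sub_apply, hξ, sub_self])

end GrothLib.GrpdEtale13
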