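import Groth.Agent.Lib.GrpdQuot.Alg

/-!
Cartesian morphisms of affine groupoids preserving stabilizers: target points of arrows.
-/

universe u

namespace GrothLib.GrpdEtale13

open GrothLib.GrpdQuot

variable {A B C₂ A' B' C₂' : Type u} [CommRing A] [CommRing B] [CommRing C₂] [CommRing A']
  [CommRing B'] [CommRing C₂']

/-- The ring maps of a morphism of affine groupoids with cartesian source and target squares and
cartesian stabilizers. -/
structure EHom (G : GData A B C₂) (G' : GData A' B' C₂') where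
  fA : A →+* A'
  fB : B →+* B'
  comm_s : G'.s.comp fA = fB.comp G.s
  comm_t : G'.t.comp fA = fB.comp G.t
  push_s : ∀ {T : Type u} [CommRing T] (u : B →+* T) (v : A' →+* T), u.comp G.s = v.comp fA →
    ∃! w : B' →+* T, w.comp fB = u ∧ w.comp G'.s = v
  push_t : ∀ {T : Type u} [CommRing T] (u : B →+* T) (v : A' →+* T), u.comp G.t = v.comp fA →
    ∃! w : B' →+* T, w.comp fB = u ∧ w.comp G'.t = v
  stab : ∀ {K : Type u} [Field K] (r : B →+* K) (x : A' →+* K), x.comp fA = r.comp G.s →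
    r.comp G.t = r.comp G.s →
    ∃ r' : B' →+* K, r'.comp fB = r ∧ r'.comp G'.s = x ∧ r'.comp G'.t = x
  pair : ∀ {T : Type u} [CommRing T] (r₁ r₂ : B' →+* T), r₁.comp G'.s = r₂.comp G'.s →
    ∃ δ : B' →+* T, δ.comp G'.s = r₁.comp G'.t ∧ δ.comp G'.t = r₂.comp G'.t

namespace EHom

variable {G : GData A B C₂} {G' : GData A' B' C₂'} (E : EHom G G')
variable {K : Type u} [Field K]

theorem comp_s (r : B' →+* K) : (r.comp G'.s).comp E.fA = (r.comp E.fB).comp G.s := by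
  rw [RingHom.comp_assoc, E.comm_s, ← RingHom.comp_assoc]

theorem comp_t (r : B' →+* K) : (r.comp G'.t).comp E.fA = (r.comp E.fB).comp G.t := by
  rw [RingHom.comp_assoc, E.comm_t, ← RingHom.comp_assoc]

/-- Two arrows with the same source whose targets lie over the same point have the same target. -/
theorem target_unique (r₁ r₂ : B' →+* K) (hs : r₁.comp G'.s = r₂.comp G'.s)
    (ht : (r₁.comp G'.t).comp E.fA = (r₂.comp G'.t).comp E.fA) :
    r₁.comp G'.t = r₂.comp G'.t := by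
  obtain ⟨δ, hδs, hδt⟩ := E.pair r₁ r₂ hs
  have hs' : (r₁.comp G'.t).comp E.fA = (δ.comp E.fB).comp G.s := by rw [← E.comp_s, hδs]
  obtain ⟨r', hr', hr's, hr't⟩ := E.stab (δ.comp E.fB) (r₁.comp G'.t) hs' (by
    rw [← E.comp_t, hδt, ← ht, hs'])
  have : δ = r' := (E.push_s (δ.comp E.fB) (r₁.comp G'.t) hs'.symm).unique ⟨rfl, hδs⟩ ⟨hr', hr's⟩
  rw [← hδt, this, hr't]

/-- `y` is the point over `x` in the orbit of `x₀`. -/
def IsLift (x₀ : A' →+* K) (x : A →+* K) (y : A' →+* K) : Prop :=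
  y.comp E.fA = x ∧ ∃ r : B' →+* K, r.comp G'.s = x₀ ∧ r.comp G'.t = y

variable {E}

theorem IsLift.unique {x₀ : A' →+* K} {x : A →+* K} {y₁ y₂ : A' →+* K} (h₁ : E.IsLift x₀ x y₁)
    (h₂ : E.IsLift x₀ x y₂) : y₁ = y₂ := by
  obtain ⟨h₁, r₁, hr₁s, rfl⟩ := h₁
  obtain ⟨h₂, r₂, hr₂s, rfl⟩ := h₂
  exact E.target_unique r₁ r₂ (hr₁s.trans hr₂s.symm) (h₁.trans h₂.symm)

theorem IsLift.self (x₀ : A' →+* K) : E.IsLift x₀ (x₀.comp E.fA) x₀ :=
  ⟨rfl, x₀.comp G'.e, by rw [RingHom.comp_assoc, G'.e_s, RingHom.comp_id],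
    by rw [RingHom.comp_assoc, G'.e_t, RingHom.comp_id]⟩

/-- Arrows carry lifts to lifts. -/
theorem IsLift.equivariant {x₀ y₁ y₂ : A' →+* K} (r : B →+* K) (r' : B' →+* K)
    (hr : r'.comp E.fB = r) (h₁ : E.IsLift x₀ (r.comp G.s) y₁) (hs : r'.comp G'.s = y₁)
    (h₂ : E.IsLift x₀ (r.comp G.t) y₂) : r'.comp G'.t = y₂ := by
  obtain ⟨-, r₁, hr₁s, hr₁t⟩ := h₁
  obtain ⟨h₂, r₂, hr₂s, rfl⟩ := h₂
  obtain ⟨δ, hδs, hδt⟩ := E.pair r₁ r₂ (hr₁s.trans hr₂s.symm)
  rw [← hδt]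
  refine (E.target_unique δ r' (by rw [hδs, hr₁t, hs]) ?_).symm
  rw [hδt, h₂, E.comp_t, hr]

variable (E)

theorem exists_isLift [IsAlgClosed K] (hfin : letI := G.s.toAlgebra; Module.Finite A B)
    (hproj : letI := G.s.toAlgebra; Module.Projective A B) (x₀ : A' →+* K) (x : A →+* K)
    (hx : ∀ c ∈ G.inv, x₀ (E.fA c) = x c) : ∃ y, E.IsLift x₀ x y := by
  haveI := hfin
  haveI := hproj
  obtain ⟨r, hrs, hrt⟩ := G.exists_hom_of_agree (x₀.comp E.fA) x hx
  obtain ⟨r', ⟨hr', hr's⟩, -⟩ := E.push_s r x₀ hrs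
  exact ⟨r'.comp G'.t, by rw [E.comp_t, hr', hrt], r', hr's, rfl⟩

theorem fA_mem_inv {a : A} (ha : a ∈ G.inv) : E.fA a ∈ G'.inv := by
  show G'.s (E.fA a) = G'.t (E.fA a)
  rw [← RingHom.comp_apply G'.s, E.comm_s, ← RingHom.comp_apply G'.t, E.comm_t]
  exact congrArg E.fB (ha : G.s a = G.t a)

/-- The map of rings of invariants. -/
def invMap : G.inv →+* G'.inv :=
  (E.fA.comp G.inv.subtype).codRestrict G'.inv fun a => E.fA_mem_inv a.2

end EHom

end GrothLib.GrpdEtale13
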