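import Groth.Agent.Lib.GrpdEtale13.Stage
import Mathlib.RingTheory.FinitePresentation

/-!
A compatible section over a hull comes from a compatible section over an etale algebra.
-/

universe u

open TensorProduct CategoryTheory

namespace GrothLib.GrpdEtale13

open GrothLib.Hensel GrothLib.GrpdQuot

section Stage

variable {R : Type u} [CommRing R] {L : Type u} [CommRing L] [Algebra R L]
  {Q : Type u} [CommRing Q] [Algebra R Q]

theorem map_eq_lTensor {P P' : Type u} [CommRing P] [Algebra R P] [CommRing P'] [Algebra R P']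
    (φ : P →ₐ[R] P') (z : Q ⊗[R] P) :
    Algebra.TensorProduct.map (AlgHom.id Q Q) φ z = φ.toLinearMap.lTensor Q z := by
  induction z with
  | zero => simp
  | tmul a b => rfl
  | add x y hx hy => simp only [map_add, hx, hy]

theorem map_ι_map {N N' : Nbhd R L} (f : N ⟶ N') (z : Q ⊗[R] N.Ring) :
    Algebra.TensorProduct.map (AlgHom.id Q Q) (Hull.ι N')
      (Algebra.TensorProduct.map (AlgHom.id Q Q) f.map z) =
      Algebra.TensorProduct.map (AlgHom.id Q Q) (Hull.ι N) z := by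
  rw [map_eq_lTensor, map_eq_lTensor, map_eq_lTensor, lTensor_ι_map]

theorem exists_stage_eq_zero_family {σ : Type*} {N : Nbhd R L} (s : Finset σ) (z : σ → Q ⊗[R] N.Ring)
    (h : ∀ i ∈ s, Algebra.TensorProduct.map (AlgHom.id Q Q) (Hull.ι N) (z i) = 0) :
    ∃ (N' : Nbhd R L) (f : N ⟶ N'),
      ∀ i ∈ s, Algebra.TensorProduct.map (AlgHom.id Q Q) f.map (z i) = 0 := by
  classical
  induction s using Finset.induction_on with
  | empty => exact ⟨N, 𝟙 N, by simp⟩
  | insert i s _ ih =>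
    obtain ⟨N', f, hf⟩ := ih fun j hj => h j (Finset.mem_insert_of_mem hj)
    obtain ⟨N'', g, hg⟩ := exists_stage_eq_zero (Algebra.TensorProduct.map (AlgHom.id Q Q) f.map (z i))
      (by rw [← map_eq_lTensor, map_ι_map]; exact h i (Finset.mem_insert_self i s))
    refine ⟨N'', f ≫ g, fun j hj => ?_⟩
    have hfg : Algebra.TensorProduct.map (AlgHom.id Q Q) (f ≫ g).map (z j) =
        Algebra.TensorProduct.map (AlgHom.id Q Q) g.map (Algebra.TensorProduct.map (AlgHom.id Q Q) f.map (z j)) := by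
      rw [map_eq_lTensor, map_eq_lTensor, map_eq_lTensor, lTensor_map_map]
    rw [hfg]
    rcases Finset.mem_insert.1 hj with rfl | hj
    · rw [map_eq_lTensor]; exact hg
    · rw [hf j hj, map_zero]

theorem exists_stage_family {σ : Type*} [Finite σ] (ξ : σ → Q ⊗[R] Hull R L) :
    ∃ (N : Nbhd R L) (z : σ → Q ⊗[R] N.Ring),
      ∀ i, Algebra.TensorProduct.map (AlgHom.id Q Q) (Hull.ι N) (z i) = ξ i := by
  classical
  choose N z hz using fun i => exists_stage_lTensor (ξ i)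
  have := Fintype.ofFinite σ
  obtain ⟨K, hK⟩ := IsFiltered.sup_objs_exists (Finset.univ.image N)
  let f : ∀ i, N i ⟶ K := fun i => (hK (by simp)).some
  exact ⟨K, fun i => Algebra.TensorProduct.map (AlgHom.id Q Q) (f i).map (z i),
    fun i => by rw [map_ι_map, map_eq_lTensor, hz]⟩

end Stage

namespace EHom

variable {A B C₂ A' B' C₂' : Type u} [CommRing A] [CommRing B] [CommRing C₂] [CommRing A']
  [CommRing B'] [CommRing C₂'] {G : GData A B C₂} {G' : GData A' B' C₂'} {E : EHom G G'}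
  [Algebra A A'] [Algebra G.inv A'] [IsScalarTower G.inv A A'] [Algebra G.inv B] [Algebra G.inv B']
  [Algebra G.inv G'.inv] [IsScalarTower G.inv G'.inv A'] (hE : E.Compatible)

set_option maxHeartbeats 1000000 in
include hE in
theorem exists_section_of_hull {L : Type u} [CommRing L] [Algebra G.inv L]
    [Algebra.FinitePresentation A A'] (τ : A' →ₐ[A] A ⊗[G.inv] Hull G.inv L) (hτ : IsCompat hE τ) :
    ∃ (N : Nbhd G.inv L) (τN : A' →ₐ[A] A ⊗[G.inv] N.Ring), IsCompat hE τN ∧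
      ∀ y, Algebra.TensorProduct.map (AlgHom.id A A) (Hull.ι N) (τN y) = τ y := by
  classical
  obtain ⟨n, π, hπ, hker⟩ := (inferInstance : Algebra.FinitePresentation A A').out
  obtain ⟨φ, hφB, hφs, hφt⟩ := hτ
  -- lift the section
  obtain ⟨N₀, z, hz⟩ := exists_stage_family fun i => τ (π (MvPolynomial.X i))
  let ν₀ : MvPolynomial (Fin n) A →ₐ[A] A ⊗[G.inv] N₀.Ring := MvPolynomial.aeval z
  have hν₀ : (Algebra.TensorProduct.map (AlgHom.id A A) (Hull.ι N₀)).comp ν₀ = τ.comp π :=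
    MvPolynomial.algHom_ext fun i => by simp [ν₀, hz]
  obtain ⟨S, hS⟩ := hker
  obtain ⟨N₁, f₁, hf₁⟩ := exists_stage_eq_zero_family (N := N₀) S (fun r => ν₀ r) fun r hr => by
    rw [← AlgHom.comp_apply, hν₀, AlgHom.comp_apply,
      show π r = 0 from RingHom.mem_ker.1 (hS ▸ Ideal.subset_span hr), map_zero]
  let ν₁ := (Algebra.TensorProduct.map (AlgHom.id A A) f₁.map).comp ν₀
  have hle : ∀ r, π r = 0 → ν₁ r = 0 := fun r hr => by
    have hr' : r ∈ Ideal.span (S : Set (MvPolynomial (Fin n) A)) := hS.symm ▸ RingHom.mem_ker.2 hr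
    refine Submodule.span_induction (p := fun x _ => ν₁ x = 0) (fun x hx => hf₁ x hx) (map_zero ν₁)
      (fun x y _ _ hx hy => by rw [map_add, hx, hy, add_zero])
      (fun a x _ hx => by rw [smul_eq_mul, map_mul, hx, mul_zero]) hr'
  let τ₁ : A' →ₐ[A] A ⊗[G.inv] N₁.Ring := AlgHom.liftOfSurjective (C := A ⊗[G.inv] N₁.Ring) π hπ ν₁
    (fun r hr => RingHom.mem_ker.2 (hle r (RingHom.mem_ker.1 hr)))
  have hτ₁ : ∀ p, τ₁ (π p) = ν₁ p := fun p => AlgHom.liftOfSurjective_apply _ _ _ _ p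
  have hτ₁' : ∀ y, Algebra.TensorProduct.map (AlgHom.id A A) (Hull.ι N₁) (τ₁ y) = τ y := fun y => by
    obtain ⟨p, rfl⟩ := hπ y
    rw [hτ₁]
    show Algebra.TensorProduct.map _ _ (Algebra.TensorProduct.map _ _ (ν₀ p)) = _
    rw [map_ι_map, ← AlgHom.comp_apply, hν₀, AlgHom.comp_apply]
  -- the map on arrows
  let sT := fun (P : Type u) [CommRing P] [Algebra G.inv P] =>
    Algebra.TensorProduct.map (sC hE) (AlgHom.id G.inv P)
  let tT := fun (P : Type u) [CommRing P] [Algebra G.inv P] =>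
    Algebra.TensorProduct.map (tC hE) (AlgHom.id G.inv P)
  obtain ⟨φ₁, ⟨hφ₁B, hφ₁s⟩, -⟩ := E.push_s (Algebra.TensorProduct.includeLeftRingHom : B →+* B ⊗[G.inv] N₁.Ring)
    ((sT N₁.Ring).toRingHom.comp τ₁.toRingHom) (RingHom.ext fun a => by
      have ha : τ₁ (E.fA a) = a ⊗ₜ 1 := by rw [← hE.hA, AlgHom.commutes]; rfl
      show G.s a ⊗ₜ 1 = sT N₁.Ring (τ₁ (E.fA a))
      rw [ha]
      simp [sT]
      rfl)
  let ιB : B ⊗[G.inv] N₁.Ring →ₐ[B] B ⊗[G.inv] Hull G.inv L :=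
    Algebra.TensorProduct.map (AlgHom.id B B) (Hull.ι N₁)
  have hnat : ∀ (g : A →ₐ[G.inv] B) (w : A ⊗[G.inv] N₁.Ring),
      ιB (Algebra.TensorProduct.map g (AlgHom.id G.inv N₁.Ring) w) =
        Algebra.TensorProduct.map g (AlgHom.id G.inv (Hull G.inv L))
          (Algebra.TensorProduct.map (AlgHom.id A A) (Hull.ι N₁) w) := fun g w => by
    induction w with
    | zero => simp
    | tmul a m => simp [ιB]
    | add x y hx hy => simp only [map_add, hx, hy]
  have hφ₁ : ιB.toRingHom.comp φ₁ = φ := by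
    refine (E.push_s (Algebra.TensorProduct.includeLeftRingHom : B →+* B ⊗[G.inv] Hull G.inv L)
      (φ.comp G'.s) ?_).unique ⟨?_, ?_⟩ ⟨RingHom.ext hφB, rfl⟩
    · rw [RingHom.comp_assoc, E.comm_s, ← RingHom.comp_assoc]
      exact congrArg (fun k : B →+* B ⊗[G.inv] Hull G.inv L => k.comp G.s) (RingHom.ext hφB).symm
    · rw [RingHom.comp_assoc, hφ₁B]
      ext b
      simp [ιB]
    · rw [RingHom.comp_assoc, hφ₁s]
      ext y
      show ιB (sT N₁.Ring (τ₁ y)) = φ (G'.s y)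
      rw [hφs, hnat, hτ₁']
  obtain ⟨N₂, f₂, hf₂⟩ := exists_stage_eq_zero_family (Q := B) (N := N₁) (Finset.univ : Finset (Fin n))
    (fun i => φ₁ (G'.t (π (MvPolynomial.X i))) - tT N₁.Ring (τ₁ (π (MvPolynomial.X i)))) fun i _ => by
      rw [map_sub, sub_eq_zero]
      show (ιB.toRingHom.comp φ₁) _ = ιB (tT N₁.Ring _)
      rw [hφ₁, hφt, hnat, hτ₁']
  let fA₂ : A ⊗[G.inv] N₁.Ring →ₐ[A] A ⊗[G.inv] N₂.Ring := Algebra.TensorProduct.map (AlgHom.id A A) f₂.map
  let fB₂ : B ⊗[G.inv] N₁.Ring →ₐ[B] B ⊗[G.inv] N₂.Ring := Algebra.TensorProduct.map (AlgHom.id B B) f₂.map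
  have hnat₂ : ∀ (g : A →ₐ[G.inv] B) (w : A ⊗[G.inv] N₁.Ring),
      fB₂ (Algebra.TensorProduct.map g (AlgHom.id G.inv N₁.Ring) w) =
        Algebra.TensorProduct.map g (AlgHom.id G.inv N₂.Ring) (fA₂ w) := fun g w => by
    induction w with
    | zero => simp
    | tmul a m => simp [fA₂, fB₂]
    | add x y hx hy => simp only [map_add, hx, hy]
  refine ⟨N₂, fA₂.comp τ₁, ⟨fB₂.toRingHom.comp φ₁, fun b => ?_, fun y => ?_, ?_⟩, fun y => ?_⟩
  · show fB₂ (φ₁ (E.fB b)) = _
    rw [show φ₁ (E.fB b) = b ⊗ₜ 1 from RingHom.congr_fun hφ₁B b]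
    simp [fB₂]
  · show fB₂ (φ₁ (G'.s y)) = _
    rw [show φ₁ (G'.s y) = sT N₁.Ring (τ₁ y) from RingHom.congr_fun hφ₁s y, hnat₂]
    rfl
  · have hkey : ((fB₂.toRingHom.comp φ₁).comp G'.t).comp π.toRingHom =
        ((Algebra.TensorProduct.map (tC hE) (AlgHom.id G.inv N₂.Ring)).toRingHom.comp
          (fA₂.comp τ₁).toRingHom).comp π.toRingHom := by
      refine MvPolynomial.ringHom_ext (fun a => ?_) fun i => ?_
      · show fB₂ (φ₁ (G'.t (π (MvPolynomial.C a)))) =
          Algebra.TensorProduct.map (tC hE) (AlgHom.id G.inv N₂.Ring) (fA₂ (τ₁ (π (MvPolynomial.C a))))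
        have hC : π (MvPolynomial.C a) = algebraMap A A' a := π.commutes a
        rw [hC, AlgHom.commutes, AlgHom.commutes, hE.hA,
          show G'.t (E.fA a) = E.fB (G.t a) from RingHom.congr_fun E.comm_t a,
          show φ₁ (E.fB (G.t a)) = G.t a ⊗ₜ 1 from RingHom.congr_fun hφ₁B (G.t a)]
        simp [fB₂]
        rfl
      · have := hf₂ i (Finset.mem_univ i)
        rw [map_sub, sub_eq_zero] at this
        show fB₂ (φ₁ _) = Algebra.TensorProduct.map (tC hE) (AlgHom.id G.inv N₂.Ring) (fA₂ _)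
        rw [← hnat₂]
        exact this
    intro y
    obtain ⟨p, rfl⟩ := hπ y
    exact RingHom.congr_fun hkey p
  · show Algebra.TensorProduct.map _ _ (Algebra.TensorProduct.map _ _ (τ₁ y)) = _
    rw [map_ι_map, hτ₁']

end EHom

end GrothLib.GrpdEtale13
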