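import Groth.Agent.Lib.GrpdEtale13.Stage

/-!
The piece of the quotient cut out by a compatible section with a point.
-/

universe u

open TensorProduct

set_option synthInstance.maxHeartbeats 100000

namespace GrothLib.GrpdEtale13

open GrothLib.GrpdQuot

namespace EHom

variable {A B C₂ A' B' C₂' : Type u} [CommRing A] [CommRing B] [CommRing C₂] [CommRing A']
  [CommRing B'] [CommRing C₂'] {G : GData A B C₂} {G' : GData A' B' C₂'} {E : EHom G G'}
  [Algebra A A'] [Algebra G.inv A'] [IsScalarTower G.inv A A'] [Algebra G.inv B] [Algebra G.inv B']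
  [Algebra G.inv G'.inv] [IsScalarTower G.inv G'.inv A'] (hE : E.Compatible)
  {M : Type u} [CommRing M] [Algebra G.inv M]

variable (G G') in
/-- The map from the base change of `A` to the new invariants. -/
noncomputable def theta : G'.inv ⊗[G.inv] A →ₐ[G'.inv] A' :=
  Algebra.TensorProduct.lift (Algebra.ofId G'.inv A') (IsScalarTower.toAlgHom G.inv A A')
    fun _ _ => Commute.all _ _

variable {K : Type u} [Field K] [Algebra G.inv K]

set_option maxHeartbeats 1000000 in
include hE in
theorem exists_package [Algebra.Etale A A'] [Algebra.Etale G.inv M] (τ : A' →ₐ[A] A ⊗[G.inv] M)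
    (hτ : IsCompat hE τ) (x₀ : A' →ₐ[G.inv] K) (pt : M →ₐ[G.inv] K)
    (hx : ∀ y, Algebra.TensorProduct.productMap (x₀.comp (IsScalarTower.toAlgHom G.inv A A')) pt (τ y) = x₀ y) :
    ∃ (L : Type u) (_ : CommRing L) (_ : Algebra G'.inv L) (_ : Algebra G.inv L)
      (_ : IsScalarTower G.inv G'.inv L) (q : Ideal L), Algebra.Etale G'.inv L ∧ Algebra.Etale G.inv L ∧
      q.IsPrime ∧ (∀ c : G'.inv, x₀ (c : A') = 0 ↔ algebraMap G'.inv L c ∈ q) ∧
      (∀ z : G'.inv ⊗[G.inv] A, theta G G' z = 0 → (1 : L) ⊗ₜ[G'.inv] z = 0) ∧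
      (∀ y : A', (1 : L) ⊗ₜ[G'.inv]
        (Submodule.Quotient.mk (p := LinearMap.range (theta G G').toLinearMap) y) = 0) := by
  obtain ⟨ε, hε, hψε, hfix, hinj, hsurj⟩ := exists_invariant_idempotent hE τ hτ
  let incl := Algebra.TensorProduct.map (IsScalarTower.toAlgHom G.inv G'.inv A') (AlgHom.id G.inv M)
  let fT := Algebra.TensorProduct.map (Algebra.ofId A A') (AlgHom.id G.inv M)
  let ψ := Algebra.TensorProduct.productMap (τ.restrictScalars G.inv)
    (Algebra.TensorProduct.includeRight : M →ₐ[G.inv] A ⊗[G.inv] M)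
  let I : Ideal (G'.inv ⊗[G.inv] M) := Ideal.span {1 - ε}
  let L := (G'.inv ⊗[G.inv] M) ⧸ I
  let mk : G'.inv ⊗[G.inv] M →ₐ[G'.inv] L := Ideal.Quotient.mkₐ G'.inv I
  have hmk : ∀ z, mk z = 0 ↔ ε * z = 0 := fun z => by
    show Ideal.Quotient.mk I z = 0 ↔ _
    rw [Ideal.Quotient.eq_zero_iff_mem, Ideal.mem_span_singleton]
    constructor
    · rintro ⟨w, rfl⟩
      linear_combination -w * hε.eq
    · intro h
      exact ⟨z, by linear_combination h⟩
  have hmkε : mk ε = 1 := by
    rw [← map_one mk, ← sub_eq_zero, ← map_sub, hmk]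
    linear_combination hε.eq
  haveI : IsLocalization.Away ε L :=
    IsLocalization.away_of_isIdempotentElem (S := (G'.inv ⊗[G.inv] M) ⧸ I) hε
      (by rw [Ideal.Quotient.algebraMap_eq I, Ideal.mk_ker])
      (by rw [Ideal.Quotient.algebraMap_eq I]; exact Ideal.Quotient.mk_surjective)
  haveI : Algebra.Etale (G'.inv ⊗[G.inv] M) L := Algebra.Etale.of_isLocalizationAway ε
  have hL' : Algebra.Etale G'.inv L := Algebra.Etale.comp G'.inv (G'.inv ⊗[G.inv] M) L
  let eM : M →ₐ[G.inv] L := (mk.restrictScalars G.inv).comp Algebra.TensorProduct.includeRight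
  have heM : Function.Bijective eM := by
    refine ⟨(injective_iff_map_eq_zero _).2 fun m hm => hinj m ((hmk _).1 hm), fun l => ?_⟩
    obtain ⟨z, rfl⟩ := Ideal.Quotient.mk_surjective l
    obtain ⟨m, hm⟩ := hsurj z
    refine ⟨m, ?_⟩
    show mk (1 ⊗ₜ m) = mk z
    rw [← one_mul (mk (1 ⊗ₜ m)), ← one_mul (mk z), ← hmkε, ← map_mul, ← map_mul, hm]
  have hL : Algebra.Etale G.inv L := Algebra.Etale.of_equiv (AlgEquiv.ofBijective eM heM)
  -- the point
  let ν : G'.inv ⊗[G.inv] M →ₐ[G.inv] K :=
    Algebra.TensorProduct.productMap (x₀.comp (IsScalarTower.toAlgHom G.inv G'.inv A')) pt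
  let κ := Algebra.TensorProduct.productMap (x₀.comp (IsScalarTower.toAlgHom G.inv A A')) pt
  have hν : ∀ z, ν z = κ (ψ (incl z)) := fun z => by
    induction z with
    | zero => simp
    | tmul c m =>
      simp only [ν, κ, ψ, incl, Algebra.TensorProduct.productMap_apply_tmul, Algebra.TensorProduct.map_tmul,
        AlgHom.id_apply, map_mul, AlgHom.restrictScalars_apply, hx, Algebra.TensorProduct.includeRight_apply,
        map_one, one_mul]
      rfl
    | add x y hx hy => simp only [map_add, hx, hy]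
  have hνε : ν ε = 1 := by rw [hν, show ψ (incl ε) = 1 from hψε, map_one]
  let νL : L →+* K := Ideal.Quotient.lift I ν.toRingHom fun z hz => by
    obtain ⟨w, rfl⟩ := Ideal.mem_span_singleton.1 hz
    show ν _ = 0
    rw [map_mul, map_sub, map_one, hνε, sub_self, zero_mul]
  -- the two maps to the piece of `A' ⊗ M`
  let e := incl ε
  have hee : e * e = e := by rw [← map_mul, hε.eq]
  let IQ : Ideal (A' ⊗[G.inv] M) := Ideal.span {1 - e}
  let mkQ : A' ⊗[G.inv] M →ₐ[G.inv] (A' ⊗[G.inv] M) ⧸ IQ := Ideal.Quotient.mkₐ G.inv IQ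
  let Δ : L →ₐ[G.inv] (A' ⊗[G.inv] M) ⧸ IQ := Ideal.Quotient.liftₐ I (mkQ.comp incl) fun z hz => by
    obtain ⟨w, rfl⟩ := Ideal.mem_span_singleton.1 hz
    show Ideal.Quotient.mk IQ (incl _) = 0
    rw [Ideal.Quotient.eq_zero_iff_mem, map_mul, map_sub, map_one]
    exact Ideal.mul_mem_right _ _ (Ideal.subset_span rfl)
  let χ : L ⊗[G.inv] A →ₐ[G.inv] (A' ⊗[G.inv] M) ⧸ IQ :=
    Algebra.TensorProduct.productMap Δ (mkQ.comp
      ((Algebra.TensorProduct.includeLeft : A' →ₐ[G.inv] A' ⊗[G.inv] M).comp
        (IsScalarTower.toAlgHom G.inv A A')))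
  have hψfT : ∀ x, ψ (fT x) = x := fun x => by
    induction x with
    | zero => simp
    | tmul a m =>
      simp only [ψ, fT, Algebra.TensorProduct.map_tmul, Algebra.ofId_apply, AlgHom.id_apply,
        Algebra.TensorProduct.productMap_apply_tmul, AlgHom.restrictScalars_apply, AlgHom.commutes,
        Algebra.TensorProduct.algebraMap_apply, Algebra.algebraMap_self_apply,
        Algebra.TensorProduct.includeRight_apply, Algebra.TensorProduct.tmul_mul_tmul, mul_one, one_mul]
    | add x y hx hy => simp only [map_add, hx, hy]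
  have hχ : Function.Injective χ := by
    have key : ∀ w : M ⊗[G.inv] A, χ (Algebra.TensorProduct.map eM (AlgHom.id G.inv A) w) =
        mkQ (fT ((Algebra.TensorProduct.comm G.inv M A) w)) := fun w => by
      induction w with
      | zero => simp
      | tmul m a =>
        have h1 : Δ (eM m) = mkQ ((1 : A') ⊗ₜ[G.inv] m) := by
          show mkQ (incl (1 ⊗ₜ m)) = _
          simp [incl]
        simp only [χ, Algebra.TensorProduct.map_tmul, AlgHom.id_apply,
          Algebra.TensorProduct.productMap_apply_tmul, h1, AlgHom.comp_apply, ← map_mul]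
        simp [fT]
      | add x y hx hy => simp only [map_add, hx, hy]
    refine (injective_iff_map_eq_zero _).2 fun w hw => ?_
    obtain ⟨w₀, rfl⟩ : ∃ w₀, Algebra.TensorProduct.map eM (AlgHom.id G.inv A) w₀ = w :=
      Algebra.TensorProduct.map_surjective eM (AlgHom.id G.inv A) heM.2 Function.surjective_id w
    rw [key] at hw
    have hw' : fT ((Algebra.TensorProduct.comm G.inv M A) w₀) ∈ IQ := Ideal.Quotient.eq_zero_iff_mem.1 hw
    obtain ⟨v, hv⟩ := Ideal.mem_span_singleton.1 hw'
    have h2 := congrArg ψ hv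
    rw [hψfT, map_mul, map_sub, map_one, show ψ e = 1 from hψε, sub_self, zero_mul] at h2
    rw [(map_eq_zero_iff _ (Algebra.TensorProduct.comm G.inv M A).injective).1 h2, map_zero]
  refine ⟨L, inferInstance, inferInstance, inferInstance, inferInstance, RingHom.ker νL, hL', hL,
    RingHom.ker_isPrime _, fun c => ?_, fun z hz => ?_, fun y => ?_⟩
  · rw [RingHom.mem_ker]
    show _ ↔ ν (c ⊗ₜ 1) = 0
    simp [ν]
    exact Iff.rfl
  · let Γ : G'.inv ⊗[G.inv] A →ₐ[G.inv] L ⊗[G.inv] A :=
      Algebra.TensorProduct.map (IsScalarTower.toAlgHom G.inv G'.inv L) (AlgHom.id G.inv A)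
    have hΓ : ∀ z, AlgebraTensorModule.cancelBaseChange G.inv G'.inv G'.inv L A ((1 : L) ⊗ₜ z) = Γ z :=
      fun z => by
        induction z with
        | zero => rw [TensorProduct.tmul_zero, map_zero, map_zero]
        | tmul c a =>
          rw [AlgebraTensorModule.cancelBaseChange_tmul]
          simp [Γ, Algebra.algebraMap_eq_smul_one]
        | add x y hx hy => simp only [TensorProduct.tmul_add, map_add, hx, hy]
    have hχΓ : ∀ z, χ (Γ z) = mkQ (theta G G' z ⊗ₜ 1) := fun z => by
      induction z with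
      | zero => simp
      | tmul c a =>
        have h1 : Δ (algebraMap G'.inv L c) = mkQ ((c : A') ⊗ₜ[G.inv] (1 : M)) := by
          show mkQ (incl (c ⊗ₜ 1)) = _
          simp [incl]
          rfl
        simp only [χ, Γ, Algebra.TensorProduct.map_tmul, AlgHom.id_apply,
          Algebra.TensorProduct.productMap_apply_tmul, IsScalarTower.coe_toAlgHom', h1, AlgHom.comp_apply,
          ← map_mul]
        congr 1
        simp [theta]
        rfl
      | add x y hx hy => simp only [map_add, TensorProduct.add_tmul, hx, hy]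
    refine (AlgebraTensorModule.cancelBaseChange G.inv G'.inv G'.inv L A).injective ?_
    rw [map_zero, hΓ]
    exact hχ (by rw [hχΓ, hz, TensorProduct.zero_tmul, map_zero, map_zero])
  · let P := LinearMap.range (theta G G').toLinearMap
    let Λ : A' ⊗[G.inv] M →ₗ[G.inv] L ⊗[G'.inv] (A' ⧸ P) :=
      TensorProduct.lift (LinearMap.mk₂ G.inv
        (fun a m => mk (1 ⊗ₜ m) ⊗ₜ[G'.inv] Submodule.Quotient.mk (p := P) a)
        (fun a₁ a₂ m => by simp only [Submodule.Quotient.mk_add, TensorProduct.tmul_add])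
        (fun r a m => by
          rw [← algebraMap_smul G'.inv r a, Submodule.Quotient.mk_smul, TensorProduct.tmul_smul,
            algebraMap_smul])
        (fun a m₁ m₂ => by simp only [TensorProduct.tmul_add, map_add, TensorProduct.add_tmul])
        (fun r a m => by
          rw [TensorProduct.tmul_smul, ← AlgHom.restrictScalars_apply G.inv mk, map_smul,
            TensorProduct.smul_tmul']
          rfl))
    have hΛ : ∀ a m, Λ (a ⊗ₜ m) = mk (1 ⊗ₜ m) ⊗ₜ[G'.inv] Submodule.Quotient.mk (p := P) a :=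
      fun _ _ => rfl
    have hmul : ∀ w z, Λ (incl w * z) = mk w • Λ z := fun w z => by
      induction w with
      | zero =>
        rw [map_zero, zero_mul, map_zero, map_zero]
        exact (zero_smul L (Λ z)).symm
      | tmul c m' =>
        induction z with
        | zero => simp
        | tmul a m =>
          have h1 : (Submodule.Quotient.mk ((c : A') * a) : A' ⧸ P) = c • Submodule.Quotient.mk a := by
            rw [← Submodule.Quotient.mk_smul]; rfl
          have h2 : (c ⊗ₜ[G.inv] (m' * m) : G'.inv ⊗[G.inv] M) = c • ((1 : G'.inv) ⊗ₜ (m' * m)) := by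
            rw [TensorProduct.smul_tmul', smul_eq_mul, mul_one]
          have h3 : incl (c ⊗ₜ m') * (a ⊗ₜ m) = ((c : A') * a) ⊗ₜ (m' * m) := by
            simp [incl]
            rfl
          rw [h3, hΛ, hΛ, h1, TensorProduct.smul_tmul', smul_eq_mul, ← map_mul,
            Algebra.TensorProduct.tmul_mul_tmul, mul_one, h2, map_smul]
          exact (TensorProduct.smul_tmul _ _ _).symm
        | add x y hx hy => simp only [mul_add, map_add, hx, hy, smul_add]
      | add x y hx hy => simp only [map_add, add_mul, hx, hy, add_smul]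
    have hzero : ∀ x, Λ (fT x) = 0 := fun x => by
      induction x with
      | zero => simp
      | tmul a m =>
        have h1 : (Submodule.Quotient.mk (algebraMap A A' a) : A' ⧸ P) = 0 :=
          (Submodule.Quotient.mk_eq_zero P).2 ⟨1 ⊗ₜ a, by simp [theta]⟩
        simp only [fT, Algebra.TensorProduct.map_tmul, Algebra.ofId_apply, AlgHom.id_apply, hΛ, h1,
          TensorProduct.tmul_zero]
      | add x y hx hy => simp only [map_add, hx, hy, add_zero]
    have h1 : Λ (y ⊗ₜ 1) = 0 := by
      rw [← one_smul L (Λ (y ⊗ₜ 1)), ← hmkε, ← hmul, hfix, hmul, hzero, smul_zero]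
    rwa [hΛ, show mk ((1 : G'.inv) ⊗ₜ[G.inv] (1 : M)) = 1 from map_one mk] at h1

end EHom

end GrothLib.GrpdEtale13
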