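import Groth.Agent.Lib.Hensel.Hull
import Mathlib.RingTheory.Polynomial.ScaleRoots
import Mathlib.RingTheory.LocalRing.ResidueField.Ideal
import Mathlib.RingTheory.LocalRing.ResidueField.Instances
import Mathlib.FieldTheory.SeparableClosure
import Mathlib.FieldTheory.PurelyInseparable.PerfectClosure
import Mathlib.FieldTheory.IsAlgClosed.AlgebraicClosure
import Mathlib.RingTheory.Unramified.Field
import Mathlib.RingTheory.Ideal.GoingUp
import Mathlib.FieldTheory.Perfect

/-!
Points of integral algebras base changed to a hull at a separable closure.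
-/

universe u

open TensorProduct Polynomial

namespace GrothLib.GrpdEtale13

open GrothLib.Hensel

attribute [local instance] Algebra.TensorProduct.rightAlgebra

variable {R₀ : Type u} [CommRing R₀] (m : Ideal R₀) [m.IsPrime]
  (K : Type u) [Field K] [Algebra m.ResidueField K] [Algebra R₀ K] [IsScalarTower R₀ m.ResidueField K]

/-- The separable closure of the residue field. -/
abbrev Sep : Type u := separableClosure m.ResidueField K

instance isScalarTower_sep : IsScalarTower R₀ (Sep m K) K :=
  IsScalarTower.of_algebraMap_eq fun c => by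
    rw [IsScalarTower.algebraMap_apply R₀ m.ResidueField (Sep m K),
      IsScalarTower.algebraMap_apply R₀ m.ResidueField K c]
    rfl

/-- The hull at the separable closure of the residue field. -/
abbrev SepHull : Type u := Hull R₀ (Sep m K)

/-- Its point. -/
noncomputable def lam : SepHull m K →ₐ[R₀] K :=
  (IsScalarTower.toAlgHom R₀ (Sep m K) K).comp Hull.proj

theorem exists_nbhd (z : Sep m K) :
    ∃ (w : SepHull m K) (d : R₀), d ∉ m ∧ Hull.proj w = algebraMap R₀ (Sep m K) d * z := by
  classical
  let φ := algebraMap R₀ m.ResidueField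
  have hsep : IsSeparable m.ResidueField z := Algebra.IsSeparable.isSeparable _ z
  let g := minpoly m.ResidueField z
  have hg : g.Monic := minpoly.monic hsep.isIntegral
  obtain ⟨⟨b, hb⟩, hb'⟩ := IsLocalization.exist_integer_multiples_of_finset (nonZeroDivisors (R₀ ⧸ m))
    ((Finset.range g.natDegree).image g.coeff)
  obtain ⟨d, rfl⟩ := Ideal.Quotient.mk_surjective b
  have hd : d ∉ m := fun h => nonZeroDivisors.ne_zero hb (Ideal.Quotient.eq_zero_iff_mem.mpr h)
  have hd0 : φ d ≠ 0 := fun h => hd (Ideal.algebraMap_residueField_eq_zero.mp h)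
  have hlift : g.scaleRoots (φ d) ∈ Polynomial.lifts φ := by
    rw [Polynomial.lifts_iff_coeff_lifts]
    intro i
    rw [coeff_scaleRoots]
    rcases lt_or_ge i g.natDegree with hi | hi
    · obtain ⟨c', hc'⟩ := hb' (g.coeff i) (Finset.mem_image_of_mem _ (Finset.mem_range.mpr hi))
      obtain ⟨c, rfl⟩ := Ideal.Quotient.mk_surjective c'
      refine ⟨d ^ (g.natDegree - i - 1) * c, ?_⟩
      have hc : φ c = φ d * g.coeff i := hc'.trans (Algebra.smul_def _ _)
      rw [map_mul, map_pow, hc, mul_left_comm, ← mul_assoc, mul_comm (φ d), ← pow_succ,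
        show g.natDegree - i - 1 + 1 = g.natDegree - i by omega, mul_comm]
    · rcases hi.eq_or_lt with h | h
      · refine ⟨1, ?_⟩
        rw [← h, Nat.sub_self, pow_zero, mul_one, map_one, coeff_natDegree, hg.leadingCoeff]
      · exact ⟨0, by rw [coeff_eq_zero_of_natDegree_lt h, zero_mul, map_zero]⟩
  obtain ⟨f, hf, -, hfm⟩ := lifts_and_degree_eq_and_monic hlift ((monic_scaleRoots_iff _).mpr hg)
  set w := algebraMap m.ResidueField (Sep m K) (φ d) * z
  have hw : w = algebraMap R₀ (Sep m K) d * z := by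
    rw [IsScalarTower.algebraMap_apply R₀ m.ResidueField (Sep m K) d]
  let P := simpleRootPair f hfm
  have hev : ∀ q : R₀[X], aeval w q = aeval w (q.map φ) := fun q =>
    (aeval_map_algebraMap m.ResidueField w q).symm
  have hscale : g.scaleRoots (φ d) = C ((φ d) ^ g.natDegree) * g.comp (C (φ d)⁻¹ * X) := by
    ext i
    rw [coeff_scaleRoots, coeff_C_mul, comp_C_mul_X_coeff]
    rcases le_or_gt i g.natDegree with hi | hi
    · rw [pow_sub₀ _ hd0 hi, inv_pow]
      ring
    · rw [coeff_eq_zero_of_natDegree_lt hi]; simp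
  have hdz : aeval w (C (φ d)⁻¹ * X) = z := by
    rw [map_mul, aeval_C, aeval_X, ← mul_assoc, ← map_mul, inv_mul_cancel₀ hd0, map_one, one_mul]
  have hne : algebraMap m.ResidueField (Sep m K) (φ d) ≠ 0 :=
    (_root_.map_ne_zero _).mpr hd0
  have hmap : P.HasMap w := by
    refine ⟨?_, ?_⟩
    · show aeval w f = 0
      rw [hev, hf, hscale, map_mul, aeval_comp, hdz, minpoly.aeval, mul_zero]
    · show IsUnit (aeval w f.derivative)
      rw [hev, ← derivative_map, hf, hscale, derivative_C_mul, derivative_comp, derivative_mul,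
        derivative_C, derivative_X, zero_mul, zero_add, mul_one, map_mul, aeval_C, map_mul, aeval_C,
        aeval_comp, hdz]
      refine (mul_ne_zero ?_ (mul_ne_zero ?_ ?_)).isUnit
      · rw [map_pow]; exact pow_ne_zero _ hne
      · rw [map_inv₀]; exact inv_ne_zero hne
      · exact hsep.aeval_derivative_ne_zero (minpoly.aeval _ _)
  refine ⟨Hull.of (P.lift w hmap) P.X, d, hd, ?_⟩
  rw [← hw, ← AlgHom.comp_apply Hull.proj, Hull.proj_comp_of]
  exact P.lift_X w hmap

theorem proj_surjective : Function.Surjective (Hull.proj : SepHull m K →ₐ[R₀] Sep m K) := by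
  intro z
  obtain ⟨w, d, hd, hw⟩ := exists_nbhd m K z
  have hne : algebraMap R₀ (Sep m K) d ≠ 0 := by
    rw [IsScalarTower.algebraMap_apply R₀ m.ResidueField (Sep m K)]
    exact (_root_.map_ne_zero _).mpr fun h => hd (Ideal.algebraMap_residueField_eq_zero.mp h)
  have hu : IsUnit (algebraMap R₀ (SepHull m K) d) :=
    Hull.isUnit_of_isUnit_proj (by rw [AlgHom.commutes]; exact hne.isUnit)
  obtain ⟨v, hv⟩ := hu.exists_left_inv
  refine ⟨v * w, ?_⟩
  have h1 := congrArg (Hull.proj : SepHull m K →ₐ[R₀] Sep m K) hv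
  rw [map_mul, AlgHom.commutes, map_one] at h1
  rw [map_mul, hw, ← mul_assoc, h1, one_mul]

/-- The kernel of the point is a maximal ideal. -/
theorem isMaximal_ker_proj :
    (RingHom.ker (Hull.proj : SepHull m K →ₐ[R₀] Sep m K).toRingHom).IsMaximal :=
  RingHom.ker_isMaximal_of_surjective _ (proj_surjective m K)

theorem eq_ker_proj (I : Ideal (SepHull m K)) [hI : I.IsMaximal] :
    I = RingHom.ker (Hull.proj : SepHull m K →ₐ[R₀] Sep m K).toRingHom := by
  refine hI.eq_of_le (isMaximal_ker_proj m K).ne_top fun x hx => ?_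
  by_contra hne
  have h : IsUnit x := Hull.isUnit_of_isUnit_proj (IsUnit.mk0 _ hne)
  exact hI.ne_top (I.eq_top_of_isUnit_mem hx h)

variable {Q : Type u} [CommRing Q] [Algebra R₀ Q]

/-- The extension of a point to the base change to the hull. -/
noncomputable def extPt (x : Q →ₐ[R₀] K) : Q ⊗[R₀] SepHull m K →ₐ[R₀] K :=
  Algebra.TensorProduct.productMap x (lam m K)

theorem extPt_tmul (x : Q →ₐ[R₀] K) (a : Q) (w : SepHull m K) :
    extPt m K x (a ⊗ₜ w) = x a * algebraMap (Sep m K) K (Hull.proj w) := by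
  simp [extPt, lam]

theorem isIntegral_tensor [Algebra.IsIntegral R₀ Q] :
    Algebra.IsIntegral (SepHull m K) (Q ⊗[R₀] SepHull m K) :=
  (AlgEquiv.ofRingEquiv (f := (Algebra.TensorProduct.comm R₀ (SepHull m K) Q).toRingEquiv)
      fun w => rfl : SepHull m K ⊗[R₀] Q ≃ₐ[SepHull m K] Q ⊗[R₀] SepHull m K).isIntegral_iff.mp inferInstance

theorem comap_algebraMap_eq [Algebra.IsIntegral R₀ Q] (M : Ideal (Q ⊗[R₀] SepHull m K)) [M.IsMaximal] :
    M.comap (algebraMap (SepHull m K) (Q ⊗[R₀] SepHull m K)) =
      RingHom.ker (Hull.proj : SepHull m K →ₐ[R₀] Sep m K).toRingHom := by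
  haveI := isIntegral_tensor m K (Q := Q)
  haveI := Ideal.isMaximal_comap_of_isIntegral_of_isMaximal (R := SepHull m K) M
  exact eq_ker_proj m K _

/-- Every closed point is given by a point. -/
theorem exists_point [IsAlgClosed K] [Algebra.IsIntegral R₀ Q] (M : Ideal (Q ⊗[R₀] SepHull m K))
    [hM : M.IsMaximal] : ∃ x : Q →ₐ[R₀] K, RingHom.ker (extPt m K x).toRingHom = M := by
  haveI := isIntegral_tensor m K (Q := Q)
  have hI := comap_algebraMap_eq m K M
  let S := (Q ⊗[R₀] SepHull m K) ⧸ M
  letI := Ideal.Quotient.field M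
  let j : SepHull m K →+* S :=
    (Ideal.Quotient.mk M).comp (algebraMap (SepHull m K) (Q ⊗[R₀] SepHull m K))
  have hker : RingHom.ker j = RingHom.ker (Hull.proj : SepHull m K →ₐ[R₀] Sep m K).toRingHom := by
    rw [← hI]
    ext x
    exact Ideal.Quotient.eq_zero_iff_mem
  let ι : Sep m K →+* S :=
    (Hull.proj : SepHull m K →ₐ[R₀] Sep m K).toRingHom.liftOfSurjective (proj_surjective m K) ⟨j, hker.ge⟩
  have hι : ∀ w, ι (Hull.proj w) = j w :=
    RingHom.liftOfSurjective_comp_apply (Hull.proj : SepHull m K →ₐ[R₀] Sep m K).toRingHom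
      (proj_surjective m K) ⟨j, hker.ge⟩
  letI : Algebra (Sep m K) S := ι.toAlgebra
  haveI : Algebra.IsIntegral (Sep m K) S := by
    refine ⟨fun s => ?_⟩
    obtain ⟨p, hp, hps⟩ := Algebra.IsIntegral.isIntegral (R := SepHull m K) s
    refine ⟨p.map (Hull.proj : SepHull m K →ₐ[R₀] Sep m K).toRingHom, hp.map _, ?_⟩
    rw [eval₂_map, show (algebraMap (Sep m K) S).comp (Hull.proj : SepHull m K →ₐ[R₀] Sep m K).toRingHom =
      algebraMap (SepHull m K) S from RingHom.ext hι]
    exact hps
  let l : S →ₐ[Sep m K] K := IsAlgClosed.lift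
  have hl : ∀ w, l (j w) = algebraMap (Sep m K) K (Hull.proj w) := fun w => by
    rw [← hι]; exact l.commutes _
  let x₁ : Q →+* K := l.toRingHom.comp ((Ideal.Quotient.mk M).comp Algebra.TensorProduct.includeLeftRingHom)
  let x : Q →ₐ[R₀] K :=
    { x₁ with
      commutes' := fun c => by
        show l (Ideal.Quotient.mk M (algebraMap R₀ Q c ⊗ₜ 1)) = algebraMap R₀ K c
        have h1 : (algebraMap R₀ Q c ⊗ₜ[R₀] (1 : SepHull m K) : Q ⊗[R₀] SepHull m K) =
            algebraMap (SepHull m K) (Q ⊗[R₀] SepHull m K) (algebraMap R₀ (SepHull m K) c) := by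
          rw [Algebra.TensorProduct.right_algebraMap_apply, Algebra.algebraMap_eq_smul_one,
            Algebra.algebraMap_eq_smul_one, TensorProduct.smul_tmul]
        rw [h1]
        refine (hl _).trans ?_
        rw [AlgHom.commutes]
        exact (IsScalarTower.algebraMap_apply R₀ (Sep m K) K c).symm }
  have hx : ∀ z, extPt m K x z = l (Ideal.Quotient.mk M z) := fun z => by
    induction z with
    | zero => simp
    | tmul a w =>
      have e : l (Ideal.Quotient.mk M ((1 : Q) ⊗ₜ[R₀] w)) = algebraMap (Sep m K) K (Hull.proj w) := hl w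
      rw [extPt_tmul, ← e, show (a ⊗ₜ[R₀] w : Q ⊗[R₀] SepHull m K) = (a ⊗ₜ 1) * (1 ⊗ₜ w) by simp, map_mul,
        map_mul]
      rfl
    | add x y hx hy => simp only [map_add, hx, hy]
  refine ⟨x, Ideal.ext fun z => ?_⟩
  rw [RingHom.mem_ker]
  show extPt m K x z = 0 ↔ _
  rw [hx]
  exact (map_eq_zero_iff l (RingHom.injective l.toRingHom)).trans Ideal.Quotient.eq_zero_iff_mem

variable [Algebra.IsAlgebraic m.ResidueField K]

/-- The image of an extended point. -/
noncomputable def imgField (x : Q →ₐ[R₀] K) : IntermediateField (Sep m K) K :=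
  let R : Subalgebra (Sep m K) K :=
    { (extPt m K x).toRingHom.range.toSubsemiring with
      algebraMap_mem' := fun z => by
        obtain ⟨w, rfl⟩ := proj_surjective m K z
        exact ⟨1 ⊗ₜ w, by show extPt m K x (1 ⊗ₜ w) = _; rw [extPt_tmul, map_one, one_mul]⟩ }
  haveI : Algebra.IsAlgebraic (Sep m K) K := Algebra.IsAlgebraic.tower_top (K := m.ResidueField) (Sep m K)
  R.toIntermediateField' (Subalgebra.isField_of_algebraic R)

theorem mem_imgField {x : Q →ₐ[R₀] K} {z : K} : z ∈ imgField m K x ↔ ∃ w, extPt m K x w = z := Iff.rfl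

theorem isPurelyInseparable_sep : IsPurelyInseparable (Sep m K) K :=
  separableClosure.isPurelyInseparable m.ResidueField K

/-- A point is determined by the kernel of its extension. -/
theorem point_ext {x y : Q →ₐ[R₀] K}
    (h : RingHom.ker (extPt m K x).toRingHom = RingHom.ker (extPt m K y).toRingHom) : x = y := by
  haveI := isPurelyInseparable_sep m K
  obtain ⟨q, _⟩ := ExpChar.exists (Sep m K)
  haveI : ExpChar K q := expChar_of_injective_algebraMap (algebraMap (Sep m K) K).injective q
  ext a
  obtain ⟨n, z, hz⟩ := IsPurelyInseparable.pow_mem (Sep m K) q (x a)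
  obtain ⟨w, rfl⟩ := proj_surjective m K z
  have h1 : ((a ⊗ₜ[R₀] (1 : SepHull m K)) ^ q ^ n - 1 ⊗ₜ w) ∈ RingHom.ker (extPt m K x).toRingHom := by
    show extPt m K x _ = 0
    rw [map_sub, map_pow, extPt_tmul, extPt_tmul, map_one, map_one, map_one, mul_one, one_mul]
    exact sub_eq_zero.2 hz.symm
  rw [h] at h1
  change extPt m K y _ = 0 at h1
  rw [map_sub, map_pow, extPt_tmul, extPt_tmul, map_one, map_one, map_one, mul_one, one_mul,
    sub_eq_zero, hz] at h1
  exact (iterateFrobenius_inj K q n (by rw [iterateFrobenius_def, iterateFrobenius_def]; exact h1)).symm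

set_option maxHeartbeats 400000 in
/-- Points of unramified algebras over a point take values in the image of its extension. -/
theorem mem_imgField_of_unramified {Q' : Type u} [CommRing Q'] [Algebra Q Q']
    [Algebra.FormallyUnramified Q Q'] [Algebra.EssFiniteType Q Q'] (x : Q →ₐ[R₀] K) (σ : Q' →+* K)
    (h : σ.comp (algebraMap Q Q') = x.toRingHom) (y : Q') : σ y ∈ imgField m K x := by
  haveI := isPurelyInseparable_sep m K
  let F := imgField m K x
  letI : Algebra Q F := (x.toRingHom.codRestrict F fun a =>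
    (mem_imgField m K).2 ⟨a ⊗ₜ 1, by rw [extPt_tmul, map_one, map_one, mul_one]; rfl⟩).toAlgebra
  letI : Algebra Q K := x.toRingHom.toAlgebra
  haveI : IsScalarTower Q F K := IsScalarTower.of_algebraMap_eq fun _ => rfl
  let σA : Q' →ₐ[Q] K := { σ with commutes' := fun a => RingHom.congr_fun h a }
  let θ : F ⊗[Q] Q' →ₐ[F] K := Algebra.TensorProduct.lift (Algebra.ofId F K) σA fun _ _ => Commute.all _ _
  haveI : Algebra.FormallyUnramified F θ.range :=
    Algebra.FormallyUnramified.of_surjective θ.rangeRestrict θ.rangeRestrict_surjective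
  haveI : Algebra.EssFiniteType F (F ⊗[Q] Q') := inferInstance
  haveI : Algebra.EssFiniteType F θ.range :=
    Algebra.EssFiniteType.of_surjective θ.rangeRestrict θ.rangeRestrict_surjective
  haveI : Module.Free F θ.range := Module.Free.of_divisionRing F θ.range
  haveI : Module.Finite F θ.range := Algebra.FormallyUnramified.finite_of_free _ _
  letI : Field θ.range := (isField_of_isIntegral_of_isField' (R := F) (Field.toIsField F)).toField
  haveI : Algebra.IsSeparable F θ.range := Algebra.FormallyUnramified.isSeparable F θ.range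
  have hy : σ y ∈ θ.range := ⟨1 ⊗ₜ y, by simp [θ, σA]⟩
  have hsep : IsSeparable F (σ y) := by
    have h0 := IsSeparable.map θ.range.val Subtype.val_injective
      (Algebra.IsSeparable.isSeparable F (⟨σ y, hy⟩ : θ.range))
    rw [show θ.range.val ⟨σ y, hy⟩ = σ y from rfl] at h0
    exact h0
  haveI : IsPurelyInseparable F K := IsPurelyInseparable.tower_top (Sep m K) F K
  obtain ⟨z, hz⟩ := IsPurelyInseparable.inseparable F (σ y) hsep
  rw [← hz]
  exact z.2

end GrothLib.GrpdEtale13
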