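import Groth.Agent.Lib.GrpdEtale13.Descend
import Groth.Agent.Lib.GrpdEtale13.Package
import Groth.Agent.Lib.GrpdEtale13.Points
import Groth.Agent.Lib.Hensel.Properties
import Mathlib.RingTheory.Unramified.LocalStructure
import Mathlib.RingTheory.Localization.AtPrime.Basic

/-!
A compatible section over the strictly henselian hull of a prime of the invariants.
-/

universe u

open TensorProduct

namespace GrothLib.GrpdEtale13

open GrothLib.Hensel GrothLib.GrpdQuot

attribute [local instance] Algebra.TensorProduct.rightAlgebra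

namespace EHom

variable {A B C₂ A' B' C₂' : Type u} [CommRing A] [CommRing B] [CommRing C₂] [CommRing A']
  [CommRing B'] [CommRing C₂'] {G : GData A B C₂} {G' : GData A' B' C₂'} {E : EHom G G'}
  [Algebra A A'] [Algebra G.inv A'] [IsScalarTower G.inv A A'] [Algebra G.inv B] [Algebra G.inv B']
  [Algebra G.inv G'.inv] [IsScalarTower G.inv G'.inv A'] (hE : E.Compatible)

include hE in
theorem isIntegral_arrows (hfin : letI := G.s.toAlgebra; Module.Finite A B)
    (hproj : letI := G.s.toAlgebra; Module.Projective A B) : Algebra.IsIntegral G.inv B := by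
  haveI := hfin
  haveI := hproj
  haveI := G.isIntegral_inv
  letI := G.s.toAlgebra
  haveI : IsScalarTower G.inv A B := IsScalarTower.of_algebraMap_eq fun c => hE.hB c
  exact Algebra.IsIntegral.trans A

set_option maxHeartbeats 1000000 in
include hE in
theorem exists_section_hull (m : Ideal G.inv) [m.IsPrime] (K : Type u) [Field K]
    [Algebra m.ResidueField K] [Algebra G.inv K] [IsScalarTower G.inv m.ResidueField K] [IsAlgClosed K]
    [Algebra.IsAlgebraic m.ResidueField K] [Algebra.Etale A A']
    (hfin : letI := G.s.toAlgebra; Module.Finite A B)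
    (hproj : letI := G.s.toAlgebra; Module.Projective A B) (x₀ : A' →ₐ[G.inv] K) :
    ∃ τ : A' →ₐ[A] A ⊗[G.inv] SepHull m K, IsCompat hE τ ∧
      ∀ y, extPt m K (x₀.comp (IsScalarTower.toAlgHom G.inv A A')) (τ y) = x₀ y := by
  classical
  haveI hAint : Algebra.IsIntegral G.inv A := by
    haveI := hfin
    haveI := hproj
    exact G.isIntegral_inv
  haveI hBint := isIntegral_arrows hE hfin hproj
  -- the points over `m`
  have hlift : ∀ x : A →ₐ[G.inv] K, ∃ y, E.IsLift x₀.toRingHom x.toRingHom y := fun x =>
    E.exists_isLift hfin hproj x₀.toRingHom x.toRingHom fun c hc => by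
      show x₀ (E.fA c) = x c
      rw [← hE.hA]
      exact ((congrArg x₀ (IsScalarTower.algebraMap_apply G.inv A A' ⟨c, hc⟩).symm).trans
        (x₀.commutes ⟨c, hc⟩)).trans (x.commutes ⟨c, hc⟩).symm
  choose σ hσ using hlift
  let x₀₀ := x₀.comp (IsScalarTower.toAlgHom G.inv A A')
  -- there are finitely many
  haveI hX : Finite (A →ₐ[G.inv] K) := by
    let u₀ : A →+* K := x₀₀.toRingHom
    letI := G.s.toAlgebra
    letI := u₀.toAlgebra
    haveI := hfin
    haveI := hproj
    haveI : Finite ((K ⊗[A] B) →ₐ[K] K) := inferInstance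
    refine Finite.of_injective (β := Set.range fun g : (K ⊗[A] B) →ₐ[K] K =>
        (g.toRingHom.comp (Algebra.TensorProduct.includeRight : B →ₐ[A] K ⊗[A] B).toRingHom).comp G.t)
      (fun x => ⟨x.toRingHom, ?_⟩)
      fun x y h => AlgHom.ext fun a => RingHom.congr_fun (Subtype.ext_iff.1 h) a
    obtain ⟨r, hrs, hrt⟩ := G.exists_hom_of_agree u₀ x.toRingHom fun c hc =>
      (x₀₀.commutes ⟨c, hc⟩).trans (x.commutes ⟨c, hc⟩).symm
    let rA : B →ₐ[A] K := { r with commutes' := fun a => RingHom.congr_fun hrs a }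
    refine ⟨Algebra.TensorProduct.lift (Algebra.ofId K K) rA fun _ _ => Commute.all _ _, ?_⟩
    rw [← hrt]
    ext a
    simp [rA]
  -- lifts with prescribed values
  let D := SepHull m K
  let AD := A ⊗[G.inv] D
  let Φ : AD →+* ((A →ₐ[G.inv] K) → K) := RingHom.pi fun x => (extPt m K x).toRingHom
  let Ψ : A' →+* ((A →ₐ[G.inv] K) → K) := RingHom.pi σ
  have hker : ∀ x : A →ₐ[G.inv] K, (RingHom.ker (extPt m K x).toRingHom).IsMaximal := fun x => by
    haveI := isIntegral_tensor m K (Q := A)
    haveI : (RingHom.ker (extPt m K x).toRingHom).IsPrime := RingHom.ker_isPrime _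
    refine Ideal.isMaximal_of_isIntegral_of_isMaximal_comap (R := D) _ ?_
    have h : Ideal.comap (algebraMap D AD) (RingHom.ker (extPt m K x).toRingHom) =
        RingHom.ker (Hull.proj : D →ₐ[G.inv] Sep m K).toRingHom := by
      ext w
      show extPt m K x ((1 : A) ⊗ₜ w) = 0 ↔ Hull.proj w = 0
      rw [extPt_tmul, map_one, one_mul, _root_.map_eq_zero]
    rw [h]
    exact isMaximal_ker_proj m K
  have hrange : ∀ y, ∃ w, Φ w = Ψ y := by
    intro y
    have hmem : ∀ x, ∃ w, extPt m K x w = σ x y := fun x =>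
      (mem_imgField m K).1 (mem_imgField_of_unramified m K x (σ x) (by
        rw [show algebraMap A A' = E.fA from RingHom.ext hE.hA]
        exact (hσ x).1) y)
    choose w hw using hmem
    have hcop : Pairwise (Function.onFun IsCoprime fun x : A →ₐ[G.inv] K =>
        RingHom.ker (extPt m K x).toRingHom) := fun x x' hne => by
      refine Ideal.isCoprime_iff_sup_eq.2 ((hker x).coprime_of_ne (hker x') fun h => hne ?_)
      exact point_ext m K h
    obtain ⟨v, hv⟩ := Ideal.pi_quotient_surjective hcop fun x => Ideal.Quotient.mk _ (w x)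
    refine ⟨v, funext fun x => ?_⟩
    have := Ideal.Quotient.eq.1 (hv x)
    change extPt m K x (v - w x) = 0 at this
    rw [map_sub, sub_eq_zero] at this
    show extPt m K x v = σ x y
    rw [this, hw]
  let J : Ideal AD := RingHom.ker Φ
  let Φb : AD ⧸ J →+* ((A →ₐ[G.inv] K) → K) := RingHom.kerLift Φ
  have hΦb : Function.Injective Φb := RingHom.kerLift_injective Φ
  choose pre hpre using hrange
  have hpre' : ∀ y, Φb (Ideal.Quotient.mk J (pre y)) = Ψ y := hpre
  let τb : A' →ₐ[A] AD ⧸ J :=
    { toFun := fun y => Ideal.Quotient.mk J (pre y)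
      map_one' := hΦb (by rw [hpre', map_one, map_one])
      map_mul' := fun a b => hΦb (by rw [map_mul, hpre', hpre', hpre', map_mul])
      map_zero' := hΦb (by rw [hpre', map_zero, map_zero])
      map_add' := fun a b => hΦb (by rw [map_add, hpre', hpre', hpre', map_add])
      commutes' := fun a => hΦb (by
        rw [hpre']
        funext x
        show σ x (algebraMap A A' a) = extPt m K x (a ⊗ₜ 1)
        rw [extPt_tmul, map_one, map_one, mul_one, hE.hA]
        exact RingHom.congr_fun (hσ x).1 a) }
  -- the pair is henselian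
  haveI hHens : HenselianRing AD J := by
    let I₀ := RingHom.ker (Hull.proj : D →ₐ[G.inv] Sep m K).toRingHom
    haveI := isIntegral_tensor m K (Q := A)
    haveI : HenselianRing D I₀ := Hull.henselianRing
    haveI hI : HenselianRing AD (I₀.map (algebraMap D AD)) := henselianRing_of_isIntegral I₀ AD
    have hIJ : I₀.map (algebraMap D AD) ≤ J := by
      rw [Ideal.map_le_iff_le_comap]
      intro w hw
      show Φ ((1 : A) ⊗ₜ w) = 0
      funext x
      show extPt m K x ((1 : A) ⊗ₜ w) = 0
      rw [extPt_tmul, show Hull.proj w = 0 from hw, map_zero, mul_zero]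
    refine (henselianRing_iff_of_radical_eq (le_antisymm (Ideal.radical_mono hIJ) ?_)).1 hI
    rw [Ideal.radical_le_radical_iff, Ideal.radical_eq_sInf]
    refine le_sInf fun P hP => ?_
    obtain ⟨hIP, hPp⟩ := hP
    haveI := hPp
    have hc : P.comap (algebraMap D AD) = I₀ :=
      ((isMaximal_ker_proj m K).eq_of_le (Ideal.comap_ne_top _ hPp.ne_top)
        (Ideal.map_le_iff_le_comap.1 hIP)).symm
    haveI : P.IsMaximal :=
      Ideal.isMaximal_of_isIntegral_of_isMaximal_comap (R := D) P (hc ▸ isMaximal_ker_proj m K)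
    obtain ⟨x, hx⟩ := exists_point m K P
    intro v hv
    rw [← hx]
    exact congrFun (show Φ v = 0 from hv) x
  obtain ⟨τ, hτ⟩ := GrothLib.Hensel.exists_algHom_lift (R := A) (I := J) τb
  have hval : ∀ x y, extPt m K x (τ y) = σ x y := fun x y => by
    have h := congrArg Φb (AlgHom.congr_fun hτ y)
    exact congrFun (h.trans (hpre' y)) x
  -- compatibility
  let sT := Algebra.TensorProduct.map (sC hE) (AlgHom.id G.inv D)
  let tT := Algebra.TensorProduct.map (tC hE) (AlgHom.id G.inv D)
  obtain ⟨φ, ⟨hφB, hφs⟩, -⟩ := E.push_s (Algebra.TensorProduct.includeLeftRingHom : B →+* B ⊗[G.inv] D)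
    (sT.toRingHom.comp τ.toRingHom) (RingHom.ext fun a => by
      have ha : τ (E.fA a) = a ⊗ₜ 1 := by rw [← hE.hA, AlgHom.commutes]; rfl
      show G.s a ⊗ₜ 1 = sT (τ (E.fA a))
      rw [ha]
      simp [sT]
      rfl)
  have hpt : ∀ (g : A →ₐ[G.inv] B) (r : B →ₐ[G.inv] K) (w : A ⊗[G.inv] D),
      extPt m K r (Algebra.TensorProduct.map g (AlgHom.id G.inv D) w) = extPt m K (r.comp g) w :=
    fun g r w => by
      induction w with
      | zero => simp
      | tmul a v => rw [Algebra.TensorProduct.map_tmul, extPt_tmul, extPt_tmul]; rfl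
      | add x y hx hy => simp only [map_add, hx, hy]
  have hcompat : ∀ y, φ (G'.t y) = tT (τ y) := by
    letI : Algebra A (B ⊗[G.inv] D) :=
      ((Algebra.TensorProduct.includeLeftRingHom : B →+* B ⊗[G.inv] D).comp G.t).toAlgebra
    let f₁ : A' →ₐ[A] B ⊗[G.inv] D :=
      { φ.comp G'.t with
        commutes' := fun a => by
          show φ (G'.t (algebraMap A A' a)) = G.t a ⊗ₜ 1
          rw [hE.hA, show G'.t (E.fA a) = E.fB (G.t a) from RingHom.congr_fun E.comm_t a]
          exact RingHom.congr_fun hφB (G.t a) }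
    let f₂ : A' →ₐ[A] B ⊗[G.inv] D :=
      { tT.toRingHom.comp τ.toRingHom with
        commutes' := fun a => by
          show tT (τ (algebraMap A A' a)) = G.t a ⊗ₜ 1
          rw [AlgHom.commutes, Algebra.TensorProduct.algebraMap_apply]
          simp [tT]
          rfl }
    suffices f₁ = f₂ from fun y => AlgHom.congr_fun this y
    refine algHom_ext_of_maximal f₁ f₂ fun M hM y => ?_
    haveI := hM
    obtain ⟨r, hr⟩ := exists_point m K M
    rw [← hr, RingHom.mem_ker]
    show extPt m K r (f₁ y - f₂ y) = 0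
    rw [map_sub, sub_eq_zero]
    let r' : B' →+* K := (extPt m K r).toRingHom.comp φ
    have hr' : r'.comp E.fB = r.toRingHom := by
      rw [RingHom.comp_assoc, hφB]
      ext b
      show extPt m K r (b ⊗ₜ 1) = r b
      rw [extPt_tmul, map_one, map_one, mul_one]
    have hs : r'.comp G'.s = σ (r.comp (sC hE)) := by
      rw [RingHom.comp_assoc, hφs]
      ext z
      show extPt m K r (sT (τ z)) = _
      rw [hpt, hval]
    have key := IsLift.equivariant (E := E) r.toRingHom r' hr' (hσ (r.comp (sC hE))) hs
      (hσ (r.comp (tC hE)))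
    show r' (G'.t y) = extPt m K r (tT (τ y))
    rw [hpt, hval]
    exact RingHom.congr_fun key y
  refine ⟨τ, ⟨φ, RingHom.congr_fun hφB, RingHom.congr_fun hφs, hcompat⟩, fun y => ?_⟩
  rw [hval]
  refine RingHom.congr_fun (IsLift.unique (hσ x₀₀) (?_ : E.IsLift x₀.toRingHom x₀₀.toRingHom x₀.toRingHom)) y
  have : x₀.toRingHom.comp E.fA = x₀₀.toRingHom := RingHom.ext fun a => (congrArg x₀ (hE.hA a)).symm
  rw [← this]
  exact IsLift.self _

attribute [local instance] Localization.AtPrime.algebraOfLiesOver

set_option maxHeartbeats 1000000 in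
include hE in
/-- At each prime of the new invariants the map on invariants is étale locally an isomorphism onto an
étale algebra, and the square is cartesian there. -/
theorem exists_local [Algebra.Etale A A'] (hfin : letI := G.s.toAlgebra; Module.Finite A B)
    (hproj : letI := G.s.toAlgebra; Module.Projective A B)
    (hfin' : letI := G'.s.toAlgebra; Module.Finite A' B')
    (hproj' : letI := G'.s.toAlgebra; Module.Projective A' B') (m' : Ideal G'.inv) [m'.IsPrime] :
    ∃ (L : Type u) (_ : CommRing L) (_ : Algebra G'.inv L) (_ : Algebra G.inv L)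
      (_ : IsScalarTower G.inv G'.inv L) (q : Ideal L), Algebra.Etale G'.inv L ∧ Algebra.Etale G.inv L ∧
      q.IsPrime ∧ q.comap (algebraMap G'.inv L) = m' ∧
      (∀ z : G'.inv ⊗[G.inv] A, theta G G' z = 0 → (1 : L) ⊗ₜ[G'.inv] z = 0) ∧
      (∀ y : A', (1 : L) ⊗ₜ[G'.inv]
        (Submodule.Quotient.mk (p := LinearMap.range (theta G G').toLinearMap) y) = 0) := by
  haveI hint : Algebra.IsIntegral G.inv A := by
    haveI := hfin
    haveI := hproj
    exact G.isIntegral_inv
  haveI hint' : Algebra.IsIntegral G'.inv A' := by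
    haveI := hfin'
    haveI := hproj'
    exact G'.isIntegral_inv
  obtain ⟨P', -, hP'p, hP'⟩ := Ideal.exists_ideal_over_prime_of_isIntegral m' (⊥ : Ideal A') (by
    intro x hx
    rw [Ideal.mem_comap, Ideal.mem_bot] at hx
    rw [show x = 0 from Subtype.ext hx]
    exact zero_mem _)
  haveI := hP'p
  let P : Ideal A := P'.comap (algebraMap A A')
  haveI : P'.LiesOver P := ⟨rfl⟩
  let m : Ideal G.inv := P.comap (algebraMap G.inv A)
  haveI : P.LiesOver m := ⟨rfl⟩
  let K := AlgebraicClosure m.ResidueField
  haveI : Algebra.IsAlgebraic m.ResidueField P.ResidueField := inferInstance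
  let l₁ : P.ResidueField →ₐ[m.ResidueField] K := IsAlgClosed.lift
  letI := l₁.toRingHom.toAlgebra
  haveI : Algebra.QuasiFinite A A' := inferInstance
  haveI : Algebra.IsAlgebraic P.ResidueField P'.ResidueField := inferInstance
  let l₂ : P'.ResidueField →ₐ[P.ResidueField] K := IsAlgClosed.lift
  let x₀ : A' →ₐ[G.inv] K :=
    { l₂.toRingHom.comp (algebraMap A' P'.ResidueField) with
      commutes' := fun c => by
        show l₂ (algebraMap A' P'.ResidueField (algebraMap G.inv A' c)) = _
        rw [IsScalarTower.algebraMap_apply G.inv A A' c, ← IsScalarTower.algebraMap_apply A A' P'.ResidueField,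
          IsScalarTower.algebraMap_apply A P.ResidueField P'.ResidueField, AlgHom.commutes]
        show l₁ (algebraMap A P.ResidueField (algebraMap G.inv A c)) = _
        rw [← IsScalarTower.algebraMap_apply, IsScalarTower.algebraMap_apply G.inv m.ResidueField P.ResidueField,
          AlgHom.commutes]
        exact (IsScalarTower.algebraMap_apply G.inv m.ResidueField K c).symm }
  have hx₀ : ∀ a, x₀ a = 0 ↔ a ∈ P' := fun a => by
    show l₂ _ = 0 ↔ _
    rw [map_eq_zero_iff l₂ (RingHom.injective l₂.toRingHom), Ideal.algebraMap_residueField_eq_zero]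
  obtain ⟨τ, hτ, hτx⟩ := exists_section_hull hE m K hfin hproj x₀
  obtain ⟨N, τN, hτN, hτNι⟩ := exists_section_of_hull hE τ hτ
  obtain ⟨L, i₁, i₂, i₃, i₄, q, h1, h2, h3, h4, h5, h6⟩ :=
    exists_package hE τN hτN x₀ ((IsScalarTower.toAlgHom G.inv (Sep m K) K).comp N.pt) fun y => by
      have h : ∀ w : A ⊗[G.inv] N.Ring,
          Algebra.TensorProduct.productMap (x₀.comp (IsScalarTower.toAlgHom G.inv A A'))
            ((IsScalarTower.toAlgHom G.inv (Sep m K) K).comp N.pt) w =
          extPt m K (x₀.comp (IsScalarTower.toAlgHom G.inv A A'))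
            (Algebra.TensorProduct.map (AlgHom.id A A) (Hull.ι N) w) := fun w => by
        induction w with
        | zero => simp
        | tmul a n =>
          rw [Algebra.TensorProduct.map_tmul, extPt_tmul, Hull.proj_ι]
          simp
        | add x y hx hy => simp only [map_add, hx, hy]
      rw [h, hτNι, hτx]
  refine ⟨L, i₁, i₂, i₃, i₄, q, h1, h2, h3, ?_, h5, h6⟩
  ext c
  rw [Ideal.mem_comap, ← h4, hx₀, ← hP']
  rfl

end EHom

end GrothLib.GrpdEtale13
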