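import Groth.Agent.Lib.GrpdEtale13.Local
import Groth.Agent.Lib.GrpdQuot.Scheme
import Groth.Agent.Lib.AlgSp.EtaleDescentSmooth
import Mathlib.AlgebraicGeometry.Morphisms.Etale
import Mathlib.RingTheory.Etale.Pi
import Mathlib.RingTheory.Smooth.Flat

/-!
Étale cartesian morphisms of affine groupoids preserving stabilizers induce étale maps of quotients
and cartesian squares.
-/

universe u

open CategoryTheory CategoryTheory.Limits AlgebraicGeometry TensorProduct

namespace GrothLib.GrpdEtale13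

open GrothLib.GrpdQuot

noncomputable section

/-- The point of an affine scheme given by a ring map. -/
def toPt {X : Scheme.{u}} [IsAffine X] {T : Type u} [CommRing T] (r : Γ(X, ⊤) →+* T) :
    Spec (.of T) ⟶ X :=
  Spec.map (CommRingCat.ofHom r) ≫ X.isoSpec.inv

theorem toPt_comp {X Y : Scheme.{u}} [IsAffine X] [IsAffine Y] {T : Type u} [CommRing T]
    (r : Γ(X, ⊤) →+* T) (g : X ⟶ Y) : toPt r ≫ g = toPt (r.comp g.appTop.hom) := by
  rw [toPt, toPt, Category.assoc, ← Scheme.isoSpec_inv_naturality, ← Category.assoc, ← Spec.map_comp]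
  rfl

theorem toPt_injective {X : Scheme.{u}} [IsAffine X] {T : Type u} [CommRing T] {r r' : Γ(X, ⊤) →+* T}
    (h : (toPt r : Spec (.of T) ⟶ X) = toPt r') : r = r' := by
  have := Spec.map_injective ((cancel_mono X.isoSpec.inv).mp h)
  exact congrArg CommRingCat.Hom.hom this

theorem exists_toPt {X : Scheme.{u}} [IsAffine X] {T : Type u} [CommRing T] (z : Spec (.of T) ⟶ X) :
    ∃ r : Γ(X, ⊤) →+* T, toPt r = z := by
  refine ⟨(Spec.preimage (z ≫ X.isoSpec.hom)).hom, ?_⟩
  rw [toPt, CommRingCat.ofHom_hom, Spec.map_preimage, Category.assoc, Iso.hom_inv_id, Category.comp_id]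

variable {S : Scheme.{u}} {G' G : Grpd.GroupoidScheme S} (f : Grpd.GroupoidScheme.Hom G' G)
  [IsAffine G.U] [IsAffine G.R] [IsAffine G'.U] [IsAffine G'.R]

theorem existsUnique_lift_of_isPullback {P X Y Z : Scheme.{u}} {fst : P ⟶ X} {snd : P ⟶ Y} {f : X ⟶ Z}
    {g : Y ⟶ Z} [IsAffine X] [IsAffine Y] [IsAffine Z] (h : IsPullback fst snd f g) {T : Type u}
    [CommRing T] (u : Γ(X, ⊤) →+* T) (v : Γ(Y, ⊤) →+* T) (huv : u.comp f.appTop.hom = v.comp g.appTop.hom) :
    ∃! w : Γ(P, ⊤) →+* T, w.comp fst.appTop.hom = u ∧ w.comp snd.appTop.hom = v := by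
  have h' : IsPushout f.appTop g.appTop fst.appTop snd.appTop := isPushout_appTop_of_isPullback h
  have hw : f.appTop ≫ CommRingCat.ofHom u = g.appTop ≫ CommRingCat.ofHom v := CommRingCat.hom_ext huv
  refine ⟨(h'.desc (CommRingCat.ofHom u) (CommRingCat.ofHom v) hw).hom,
    ⟨congrArg CommRingCat.Hom.hom (h'.inl_desc _ _ hw), congrArg CommRingCat.Hom.hom (h'.inr_desc _ _ hw)⟩,
    fun w hw' => ?_⟩
  have : CommRingCat.ofHom w = h'.desc (CommRingCat.ofHom u) (CommRingCat.ofHom v) hw := h'.hom_ext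
    (by rw [h'.inl_desc]; exact CommRingCat.hom_ext hw'.1)
    (by rw [h'.inr_desc]; exact CommRingCat.hom_ext hw'.2)
  exact congrArg CommRingCat.Hom.hom this

/-- The ring maps of a stabilizer preserving cartesian morphism. -/
def ehom (hs : IsPullback f.fR G'.s G.s f.fU) (ht : IsPullback f.fR G'.t G.t f.fU)
    (hstab : ∃ g : G'.stabilizer ⟶ G.stabilizer,
      g ≫ pullback.fst G.j G.diag = pullback.fst G'.j G'.diag ≫ f.fR ∧
        IsPullback g G'.stabilizerToU G.stabilizerToU f.fU) :
    EHom (gdata G) (gdata G') where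
  fA := f.fU.appTop.hom
  fB := f.fR.appTop.hom
  comm_s := by
    rw [show (gdata G').s = G'.s.appTop.hom from rfl, show (gdata G).s = G.s.appTop.hom from rfl,
      ← CommRingCat.hom_comp, ← CommRingCat.hom_comp, ← Scheme.Hom.comp_appTop, ← Scheme.Hom.comp_appTop,
      f.comm_s]
  comm_t := by
    rw [show (gdata G').t = G'.t.appTop.hom from rfl, show (gdata G).t = G.t.appTop.hom from rfl,
      ← CommRingCat.hom_comp, ← CommRingCat.hom_comp, ← Scheme.Hom.comp_appTop, ← Scheme.Hom.comp_appTop,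
      f.comm_t]
  push_s := fun u v huv => existsUnique_lift_of_isPullback hs u v huv
  push_t := fun u v huv => existsUnique_lift_of_isPullback ht u v huv
  pair := fun {T} _ r₁ r₂ h => by
    let α : Spec (.of T) ⟶ G'.R := toPt r₁
    let β : Spec (.of T) ⟶ G'.R := toPt r₂
    have hαβ : α ≫ G'.s = β ≫ G'.s := by
      rw [toPt_comp, toPt_comp]
      exact congrArg toPt h
    obtain ⟨δ, hδ⟩ := exists_toPt (pullback.lift α β hαβ ≫ divHom G')
    refine ⟨δ, toPt_injective ?_, toPt_injective ?_⟩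
    · show toPt (δ.comp G'.s.appTop.hom) = toPt (r₁.comp G'.t.appTop.hom)
      rw [← toPt_comp, ← toPt_comp, hδ, Category.assoc, divHom_s, pullback.lift_fst_assoc]
    · show toPt (δ.comp G'.t.appTop.hom) = toPt (r₂.comp G'.t.appTop.hom)
      rw [← toPt_comp, ← toPt_comp, hδ, Category.assoc, divHom_t, pullback.lift_snd_assoc]
  stab := fun {K} _ r x hx hst => by
    obtain ⟨g, hg, hpb⟩ := hstab
    let α : Spec (.of K) ⟶ G.R := toPt r
    let v : Spec (.of K) ⟶ G'.U := toPt x
    have hαs : α ≫ G.s = v ≫ f.fU := by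
      rw [toPt_comp, toPt_comp]
      exact congrArg toPt hx.symm
    have hαt : α ≫ G.t = v ≫ f.fU := by
      rw [← hαs, toPt_comp, toPt_comp]
      exact congrArg toPt hst
    have hj : α ≫ G.j = (v ≫ f.fU) ≫ G.diag := by
      apply pullback.hom_ext
      · rw [Category.assoc, Grpd.GroupoidScheme.j, pullback.lift_fst, Category.assoc,
          Grpd.GroupoidScheme.diag, pullback.lift_fst, Category.comp_id, hαt]
      · rw [Category.assoc, Grpd.GroupoidScheme.j, pullback.lift_snd, Category.assoc,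
          Grpd.GroupoidScheme.diag, pullback.lift_snd, Category.comp_id, hαs]
    let z₀ : Spec (.of K) ⟶ G.stabilizer := pullback.lift α (v ≫ f.fU) hj
    have hz₀ : z₀ ≫ G.stabilizerToU = v ≫ f.fU := pullback.lift_snd _ _ _
    let w := hpb.lift z₀ v hz₀
    have hw₁ : w ≫ g = z₀ := hpb.lift_fst _ _ _
    have hw₂ : w ≫ G'.stabilizerToU = v := hpb.lift_snd _ _ _
    obtain ⟨r', hr'⟩ := exists_toPt (w ≫ pullback.fst G'.j G'.diag)
    have hcond : (w ≫ pullback.fst G'.j G'.diag) ≫ G'.j = v ≫ G'.diag := by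
      rw [← hw₂]
      simp only [Category.assoc, Grpd.GroupoidScheme.stabilizerToU]
      exact congrArg (w ≫ ·) pullback.condition
    refine ⟨r', toPt_injective ?_, toPt_injective ?_, toPt_injective ?_⟩
    · show toPt (r'.comp f.fR.appTop.hom) = _
      rw [← toPt_comp, hr']
      exact (Category.assoc _ _ _).trans ((congrArg (fun k => w ≫ k) hg.symm).trans
        (((Category.assoc _ _ _).symm.trans (congrArg (fun k => k ≫ pullback.fst G.j G.diag) hw₁)).trans
          (pullback.lift_fst _ _ _)))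
    · show toPt (r'.comp G'.s.appTop.hom) = _
      rw [← toPt_comp, hr']
      have := congrArg (fun k => k ≫ pullback.snd G'.pU G'.pU) hcond
      simp only [Category.assoc, show G'.j ≫ pullback.snd G'.pU G'.pU = G'.s from pullback.lift_snd _ _ _,
        show G'.diag ≫ pullback.snd G'.pU G'.pU = 𝟙 G'.U from pullback.lift_snd _ _ _, Category.comp_id] at this
      exact ((Category.assoc _ _ _).trans this)
    · show toPt (r'.comp G'.t.appTop.hom) = _
      rw [← toPt_comp, hr']
      have := congrArg (fun k => k ≫ pullback.fst G'.pU G'.pU) hcond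
      simp only [Category.assoc, show G'.j ≫ pullback.fst G'.pU G'.pU = G'.t from pullback.lift_fst _ _ _,
        show G'.diag ≫ pullback.fst G'.pU G'.pU = 𝟙 G'.U from pullback.lift_fst _ _ _, Category.comp_id] at this
      exact ((Category.assoc _ _ _).trans this)

variable [IsFinite G.s] [Flat G.s] [LocallyOfFinitePresentation G.s]
  [IsFinite G'.s] [Flat G'.s] [LocallyOfFinitePresentation G'.s]
  (hs : IsPullback f.fR G'.s G.s f.fU) (ht : IsPullback f.fR G'.t G.t f.fU)
  (hstab : ∃ g : G'.stabilizer ⟶ G.stabilizer,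
    g ≫ pullback.fst G.j G.diag = pullback.fst G'.j G'.diag ≫ f.fR ∧
      IsPullback g G'.stabilizerToU G.stabilizerToU f.fU)

/-- The induced map on invariants. -/
def invHom : G.invariants →+* G'.invariants := (ehom f hs ht hstab).invMap

omit [IsFinite G.s] [Flat G.s] [LocallyOfFinitePresentation G.s]
  [IsFinite G'.s] [Flat G'.s] [LocallyOfFinitePresentation G'.s] in
theorem toQuot_invHom :
    G'.toQuot ≫ Spec.map (CommRingCat.ofHom (invHom f hs ht hstab)) = f.fU ≫ G.toQuot := by
  rw [Grpd.GroupoidScheme.toQuot, Grpd.GroupoidScheme.toQuot, Category.assoc, ← Spec.map_comp,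
    ← Category.assoc f.fU, Scheme.toSpecΓ_naturality, Category.assoc, ← Spec.map_comp]
  rfl

omit [IsFinite G.s] [Flat G.s] [LocallyOfFinitePresentation G.s]
  [IsFinite G'.s] [Flat G'.s] [LocallyOfFinitePresentation G'.s] in
theorem eq_invHom (g : Spec (CommRingCat.of G'.invariants) ⟶ Spec (CommRingCat.of G.invariants))
    (hg : G'.toQuot ≫ g = f.fU ≫ G.toQuot) :
    g = Spec.map (CommRingCat.ofHom (invHom f hs ht hstab)) := by
  rw [← toQuot_invHom f hs ht hstab, Grpd.GroupoidScheme.toQuot, Category.assoc, Category.assoc,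
    cancel_epi] at hg
  obtain ⟨φ, rfl⟩ : ∃ φ, Spec.map φ = g := ⟨Spec.preimage g, Spec.map_preimage g⟩
  rw [← Spec.map_comp, ← Spec.map_comp] at hg
  have h := congrArg CommRingCat.Hom.hom (Spec.map_injective hg)
  congr 1
  ext c
  exact Subtype.ext_iff.1 (Subtype.val_injective (RingHom.congr_fun h c) :
    φ.hom c = invHom f hs ht hstab c)

include ht hstab in
set_option maxHeartbeats 1000000 in
theorem main [Etale f.fU] :
    Etale (Spec.map (CommRingCat.ofHom (invHom f hs ht hstab))) ∧
      IsPullback f.fU G'.toQuot G.toQuot (Spec.map (CommRingCat.ofHom (invHom f hs ht hstab))) := by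
  classical
  set E := ehom f hs ht hstab
  let C := (gdata G).inv
  let C' := (gdata G').inv
  letI : Algebra Γ(G.U, ⊤) Γ(G'.U, ⊤) := E.fA.toAlgebra
  letI : Algebra C Γ(G'.U, ⊤) := (E.fA.comp C.subtype).toAlgebra
  haveI : IsScalarTower C Γ(G.U, ⊤) Γ(G'.U, ⊤) := IsScalarTower.of_algebraMap_eq fun _ => rfl
  letI : Algebra C Γ(G.R, ⊤) := ((gdata G).s.comp C.subtype).toAlgebra
  letI : Algebra C Γ(G'.R, ⊤) := (E.fB.comp ((gdata G).s.comp C.subtype)).toAlgebra
  letI : Algebra C C' := E.invMap.toAlgebra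
  haveI : IsScalarTower C C' Γ(G'.U, ⊤) := IsScalarTower.of_algebraMap_eq fun _ => rfl
  have hE : E.Compatible := ⟨fun _ => rfl, fun _ => rfl, fun _ => rfl⟩
  haveI : Algebra.Etale Γ(G.U, ⊤) Γ(G'.U, ⊤) :=
    (RingHom.etale_algebraMap (R := Γ(G.U, ⊤)) (S := Γ(G'.U, ⊤))).1
      ((HasRingHomProperty.iff_of_isAffine (P := @Etale) (f := f.fU)).1 inferInstance)
  have hloc := fun (m' : PrimeSpectrum C') => EHom.exists_local hE (finite_appTop_s G)
    (projective_appTop_s G) (finite_appTop_s G') (projective_appTop_s G') m'.asIdeal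
  choose L i₁ i₂ i₃ i₄ q hL' hL hq hqm hθ₁ hθ₂ using hloc
  -- the square is cartesian
  have hflat : ∀ p, Module.Flat C' (L p) := fun p => by haveI := hL' p; infer_instance
  have hbij : Function.Bijective (EHom.theta (gdata G) (gdata G')) := by
    constructor
    · refine (injective_iff_map_eq_zero _).2 fun z hz => ?_
      by_contra hne
      obtain ⟨n, hn, hle⟩ := Ideal.exists_le_maximal (LinearMap.ker (LinearMap.toSpanSingleton C' _ z))
        (fun htop => hne (by simpa using (Ideal.eq_top_iff_one _).1 htop))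
      haveI := hflat ⟨n, hn.isPrime⟩
      haveI := hq ⟨n, hn.isPrime⟩
      obtain ⟨c, hc, hcz⟩ := exists_smul_eq_zero_of_one_tmul z (hθ₁ ⟨n, hn.isPrime⟩ z hz) (q ⟨n, hn.isPrime⟩)
      exact hc (Ideal.mem_comap.1 ((hqm ⟨n, hn.isPrime⟩).ge (hle hcz)))
    · intro y
      by_contra hne
      let P := LinearMap.range (EHom.theta (gdata G) (gdata G')).toLinearMap
      obtain ⟨n, hn, hle⟩ := Ideal.exists_le_maximal
        (LinearMap.ker (LinearMap.toSpanSingleton C' _ (Submodule.Quotient.mk (p := P) y)))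
        (fun htop => hne (by
          have h1 := (Ideal.eq_top_iff_one _).1 htop
          rw [LinearMap.mem_ker, LinearMap.toSpanSingleton_apply, one_smul, Submodule.Quotient.mk_eq_zero] at h1
          exact h1))
      haveI := hflat ⟨n, hn.isPrime⟩
      haveI := hq ⟨n, hn.isPrime⟩
      obtain ⟨c, hc, hcz⟩ := exists_smul_eq_zero_of_one_tmul (Submodule.Quotient.mk (p := P) y)
        (hθ₂ ⟨n, hn.isPrime⟩ y) (q ⟨n, hn.isPrime⟩)
      exact hc (Ideal.mem_comap.1 ((hqm ⟨n, hn.isPrime⟩).ge (hle hcz)))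
  refine ⟨?_, ?_⟩
  · -- étale, by descent along finitely many charts
    let U : PrimeSpectrum C' → Set (PrimeSpectrum C') := fun p =>
      Set.range (PrimeSpectrum.comap (algebraMap C' (L p)))
    have hU : ∀ p, IsOpen (U p) := fun p => by
      haveI := hL' p
      exact (PrimeSpectrum.isOpenMap_comap_of_hasGoingDown_of_finitePresentation
        (R := C') (S := L p)).isOpen_range
    obtain ⟨t, ht'⟩ := CompactSpace.isCompact_univ.elim_finite_subcover U hU fun p _ =>
      Set.mem_iUnion.2 ⟨p, ⟨⟨q p, hq p⟩, PrimeSpectrum.ext (hqm p)⟩⟩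
    let LT : Type u := ∀ p : t, L p.1
    haveI : ∀ p : t, Algebra.Etale C' (L p.1) := fun p => hL' p.1
    haveI : ∀ p : t, Algebra.Etale C (L p.1) := fun p => hL p.1
    haveI : IsScalarTower C C' LT := IsScalarTower.of_algebraMap_eq fun c =>
      funext fun p => IsScalarTower.algebraMap_apply C C' (L p.1) c
    haveI : Module.FaithfullyFlat C' LT := by
      refine Module.FaithfullyFlat.of_comap_surjective fun P => ?_
      obtain ⟨p, hp, r, hr⟩ : ∃ p ∈ t, P ∈ U p := by simpa using Set.mem_iUnion₂.1 (ht' (Set.mem_univ P))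
      refine ⟨PrimeSpectrum.comap (Pi.evalRingHom (fun p : t => L p.1) ⟨p, hp⟩) r, ?_⟩
      rw [← hr, ← PrimeSpectrum.comap_comp_apply]
      rfl
    haveI : Algebra.Etale C C' := GrothLib.AlgSp.EtaleDescent.etale (C := LT)
    exact (HasRingHomProperty.Spec_iff (P := @Etale)).2 ((RingHom.etale_algebraMap (R := C) (S := C')).2 this)
  · let θ := (AlgEquiv.ofBijective (EHom.theta (gdata G) (gdata G')) hbij).toRingEquiv.toCommRingCatIso
    have hpo : IsPushout (CommRingCat.ofHom C.subtype) (CommRingCat.ofHom (algebraMap C C'))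
        (CommRingCat.ofHom E.fA) (CommRingCat.ofHom C'.subtype) := by
      refine ((CommRingCat.isPushout_tensorProduct C C' Γ(G.U, ⊤)).flip).of_iso (Iso.refl _) (Iso.refl _)
        (Iso.refl _) θ ?_ ?_ ?_ ?_
      · rfl
      · rfl
      · ext a
        show EHom.theta (gdata G) (gdata G') (1 ⊗ₜ a) = E.fA a
        simp [EHom.theta]
        rfl
      · ext c
        show EHom.theta (gdata G) (gdata G') (c ⊗ₜ 1) = (c : Γ(G'.U, ⊤))
        simp [EHom.theta]
        rfl
    refine (isPullback_SpecMap_of_isPushout _ _ _ _ hpo).of_iso G'.U.isoSpec.symm G.U.isoSpec.symm (Iso.refl _)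
      (Iso.refl _) ?_ ?_ ?_ ?_
    · exact Scheme.isoSpec_inv_naturality f.fU
    · show _ ≫ 𝟙 _ = G'.U.isoSpec.inv ≫ G'.toQuot
      refine (Category.comp_id _).trans ?_
      rw [Grpd.GroupoidScheme.toQuot, ← Category.assoc, Scheme.isoSpec_inv_toSpecΓ,
        Category.id_comp]
      rfl
    · show _ ≫ 𝟙 _ = G.U.isoSpec.inv ≫ G.toQuot
      refine (Category.comp_id _).trans ?_
      rw [Grpd.GroupoidScheme.toQuot, ← Category.assoc, Scheme.isoSpec_inv_toSpecΓ,
        Category.id_comp]
      rfl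
    · exact (Category.comp_id _).trans (Category.id_comp _).symm

end

end GrothLib.GrpdEtale13
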