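import Groth.Agent.Lib.GrpdEtale13.Data
import Groth.Agent.Lib.GrpdEtale13.Algebra
import Mathlib.RingTheory.Etale.Basic
import Mathlib.RingTheory.Localization.Away.Basic

/-!
A section over a flat algebra over the invariants compatible with source and target cuts out an open
and closed piece of the quotient which is isomorphic to that algebra.
-/

universe u

open TensorProduct

namespace GrothLib.GrpdEtale13

open GrothLib.GrpdQuot

/-- A module element killed by a flat algebra is killed outside every prime met by the algebra. -/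
theorem exists_smul_eq_zero_of_one_tmul {R E N : Type u} [CommRing R] [CommRing E] [Algebra R E]
    [Module.Flat R E] [AddCommGroup N] [Module R N] (n : N) (h : (1 : E) ⊗ₜ[R] n = 0) (q : Ideal E)
    [q.IsPrime] : ∃ c : R, algebraMap R E c ∉ q ∧ c • n = 0 := by
  let f : R →ₗ[R] N := LinearMap.toSpanSingleton R N n
  let I : Ideal R := LinearMap.ker f
  by_contra! hne
  have hle : ∀ c ∈ I, algebraMap R E c ∈ q := fun c hc => by
    by_contra h'
    exact hne c h' hc
  let g : (R ⧸ I) →ₗ[R] N := I.liftQ f le_rfl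
  have hg : Function.Injective g := LinearMap.ker_eq_bot.mp (Submodule.ker_liftQ_eq_bot _ _ _ le_rfl)
  have h0 : (1 : E) ⊗ₜ[R] (1 : R ⧸ I) = 0 := by
    refine Module.Flat.lTensor_preserves_injective_linearMap (M := E) g hg ?_
    rw [LinearMap.lTensor_tmul, map_zero]
    convert h
    show f 1 = n
    simp [f]
  let χ : E ⊗[R] (R ⧸ I) →ₐ[R] E ⧸ q :=
    Algebra.TensorProduct.productMap (Ideal.Quotient.mkₐ R q)
      (Ideal.Quotient.liftₐ I (Algebra.ofId R (E ⧸ q)) fun c hc =>
        (IsScalarTower.algebraMap_apply R E (E ⧸ q) c).trans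
          (Ideal.Quotient.eq_zero_iff_mem.mpr (hle c hc)))
  have := congrArg χ h0
  simp only [χ, Algebra.TensorProduct.productMap_apply_tmul, map_one, mul_one, map_zero] at this
  exact one_ne_zero this

namespace EHom

variable {A B C₂ A' B' C₂' : Type u} [CommRing A] [CommRing B] [CommRing C₂] [CommRing A']
  [CommRing B'] [CommRing C₂'] {G : GData A B C₂} {G' : GData A' B' C₂'} (E : EHom G G')
  [Algebra A A'] [Algebra G.inv A'] [IsScalarTower G.inv A A'] [Algebra G.inv B] [Algebra G.inv B']
  [Algebra G.inv G'.inv] [IsScalarTower G.inv G'.inv A']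

/-- Compatibility of the algebra structures with a morphism of groupoids. -/
structure Compatible : Prop where
  hA : ∀ a, algebraMap A A' a = E.fA a
  hB : ∀ c : G.inv, algebraMap G.inv B c = G.s c
  hB' : ∀ c : G.inv, algebraMap G.inv B' c = E.fB (algebraMap G.inv B c)

variable {E} (hE : E.Compatible)

/-- The source as an algebra map. -/
def sC : A →ₐ[G.inv] B := { G.s with commutes' := fun c => (hE.hB c).symm }

/-- The target as an algebra map. -/
def tC : A →ₐ[G.inv] B :=
  { G.t with commutes' := fun c => ((hE.hB c).trans c.2).symm }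

/-- The map on arrows as an algebra map. -/
def fBC : B →ₐ[G.inv] B' := { E.fB with commutes' := fun c => (hE.hB' c).symm }

/-- The source of the covering groupoid as an algebra map. -/
def sC' : A' →ₐ[G.inv] B' :=
  { G'.s with
    commutes' := fun c => by
      rw [IsScalarTower.algebraMap_apply G.inv A A', hE.hA, hE.hB', hE.hB]
      exact RingHom.congr_fun E.comm_s c }

/-- The target of the covering groupoid as an algebra map. -/
def tC' : A' →ₐ[G.inv] B' :=
  { G'.t with
    commutes' := fun c => by
      rw [IsScalarTower.algebraMap_apply G.inv A A', hE.hA, hE.hB', hE.hB,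
        show G.s (c : A) = G.t c from c.2]
      exact RingHom.congr_fun E.comm_t c }

variable {M : Type u} [CommRing M] [Algebra G.inv M]

/-- A section which is compatible with source and target. -/
def IsCompat (τ : A' →ₐ[A] A ⊗[G.inv] M) : Prop :=
  ∃ φ : B' →+* B ⊗[G.inv] M, (∀ b, φ (E.fB b) = b ⊗ₜ 1) ∧
    (∀ a, φ (G'.s a) = Algebra.TensorProduct.map (sC hE) (AlgHom.id G.inv M) (τ a)) ∧
    (∀ a, φ (G'.t a) = Algebra.TensorProduct.map (tC hE) (AlgHom.id G.inv M) (τ a))

include hE in
theorem exists_invariant_idempotent [Module.Flat G.inv M] [Algebra.Etale A A']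
    (τ : A' →ₐ[A] A ⊗[G.inv] M) (hτ : IsCompat hE τ) :
    ∃ ε : G'.inv ⊗[G.inv] M, IsIdempotentElem ε ∧
      (Algebra.TensorProduct.productMap (τ.restrictScalars G.inv) Algebra.TensorProduct.includeRight)
        (Algebra.TensorProduct.map (IsScalarTower.toAlgHom G.inv G'.inv A') (AlgHom.id G.inv M) ε) = 1 ∧
      (∀ z : A' ⊗[G.inv] M,
        Algebra.TensorProduct.map (IsScalarTower.toAlgHom G.inv G'.inv A') (AlgHom.id G.inv M) ε * z =
        Algebra.TensorProduct.map (IsScalarTower.toAlgHom G.inv G'.inv A') (AlgHom.id G.inv M) ε *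
          Algebra.TensorProduct.map (Algebra.ofId A A') (AlgHom.id G.inv M)
            (Algebra.TensorProduct.productMap (τ.restrictScalars G.inv)
              Algebra.TensorProduct.includeRight z)) ∧
      (∀ m : M, ε * (1 ⊗ₜ m) = 0 → m = 0) ∧ (∀ z, ∃ m : M, ε * z = ε * (1 ⊗ₜ m)) := by
  obtain ⟨φ, hφB, hφs, hφt⟩ := hτ
  let sT := Algebra.TensorProduct.map (sC hE) (AlgHom.id G.inv M)
  let tT := Algebra.TensorProduct.map (tC hE) (AlgHom.id G.inv M)
  let sT' := Algebra.TensorProduct.map (sC' hE) (AlgHom.id G.inv M)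
  let tT' := Algebra.TensorProduct.map (tC' hE) (AlgHom.id G.inv M)
  let fBT := Algebra.TensorProduct.map (fBC hE) (AlgHom.id G.inv M)
  let fT := Algebra.TensorProduct.map (Algebra.ofId A A') (AlgHom.id G.inv M)
  let incl := Algebra.TensorProduct.map (IsScalarTower.toAlgHom G.inv G'.inv A') (AlgHom.id G.inv M)
  let ψ := Algebra.TensorProduct.productMap (τ.restrictScalars G.inv)
    (Algebra.TensorProduct.includeRight : M →ₐ[G.inv] A ⊗[G.inv] M)
  let φC : B' →ₐ[G.inv] B ⊗[G.inv] M :=
    { φ with
      commutes' := fun c => by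
        change φ (algebraMap G.inv B' c) = _
        rw [hE.hB', hφB]
        rfl }
  let ψB := Algebra.TensorProduct.productMap φC
    (Algebra.TensorProduct.includeRight : M →ₐ[G.inv] B ⊗[G.inv] M)
  have hψf : ∀ x, ψ (fT x) = x := fun x => by
    induction x with
    | zero => simp
    | tmul a m =>
      simp only [ψ, fT, Algebra.TensorProduct.map_tmul, Algebra.ofId_apply, AlgHom.id_apply,
        Algebra.TensorProduct.productMap_apply_tmul, AlgHom.restrictScalars_apply, AlgHom.commutes,
        Algebra.TensorProduct.algebraMap_apply, Algebra.algebraMap_self_apply,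
        Algebra.TensorProduct.includeRight_apply, Algebra.TensorProduct.tmul_mul_tmul, mul_one, one_mul]
    | add x y hx hy => simp only [map_add, hx, hy]
  have hψBf : ∀ x, ψB (fBT x) = x := fun x => by
    induction x with
    | zero => simp
    | tmul b m =>
      have hb : φC (fBC hE b) = b ⊗ₜ[G.inv] (1 : M) := hφB b
      simp only [ψB, fBT, Algebra.TensorProduct.map_tmul, AlgHom.id_apply,
        Algebra.TensorProduct.productMap_apply_tmul, hb, Algebra.TensorProduct.includeRight_apply,
        Algebra.TensorProduct.tmul_mul_tmul, mul_one, one_mul]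
    | add x y hx hy => simp only [map_add, hx, hy]
  have hψBs : ∀ z, ψB (sT' z) = sT (ψ z) := fun z => by
    induction z with
    | zero => simp
    | tmul a m =>
      have ha : φC (sC' hE a) = sT (τ a) := hφs a
      simp [ψB, sT', ψ, ha, sT]
    | add x y hx hy => simp only [map_add, hx, hy]
  have hψBt : ∀ z, ψB (tT' z) = tT (ψ z) := fun z => by
    induction z with
    | zero => simp
    | tmul a m =>
      have ha : φC (tC' hE a) = tT (τ a) := hφt a
      simp [ψB, tT', ψ, ha, tT]
    | add x y hx hy => simp only [map_add, hx, hy]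
  let τ' : A' →ₐ[A] A' ⊗[G.inv] M := fT.comp τ
  let Θ : A' ⊗[A] A' →ₐ[A] A' ⊗[G.inv] M :=
    Algebra.TensorProduct.productMap
      ((Algebra.TensorProduct.includeLeft : A' →ₐ[A'] A' ⊗[G.inv] M).restrictScalars A) τ'
  let e := Θ (Algebra.FormallyUnramified.elem A A')
  have hψΘ : ∀ w, ψ (Θ w) = τ (Algebra.TensorProduct.lmul' A w) := fun w => by
    induction w with
    | zero => simp
    | tmul a b =>
      simp only [Θ, Algebra.TensorProduct.productMap_apply_tmul, map_mul, AlgHom.restrictScalars_apply,
        Algebra.TensorProduct.includeLeft_apply, Algebra.TensorProduct.lmul'_apply_tmul]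
      rw [show ψ (τ' b) = τ b from hψf (τ b)]
      simp [ψ, Algebra.TensorProduct.one_def.symm]
    | add x y hx hy => simp only [map_add, hx, hy]
  have hψe : ψ e = 1 := by
    show ψ (Θ _) = 1
    rw [hψΘ, Algebra.FormallyUnramified.lmul_elem, map_one]
  have hgen : ∀ a : A', e * (a ⊗ₜ 1) = e * fT (τ a) := fun a => by
    have h := congrArg Θ (Algebra.FormallyUnramified.one_tmul_mul_elem (R := A) a)
    simp only [map_mul, Θ, Algebra.TensorProduct.productMap_apply_tmul, map_one, one_mul, mul_one,
      AlgHom.restrictScalars_apply, Algebra.TensorProduct.includeLeft_apply] at h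
    rw [mul_comm, ← h, mul_comm]
    rfl
  have hfix : ∀ z, e * z = e * fT (ψ z) := fun z => by
    induction z with
    | zero => simp
    | tmul a m =>
      have h1 : fT ((1 : A) ⊗ₜ[G.inv] m) = (1 : A') ⊗ₜ[G.inv] m := by simp [fT]
      rw [show (a ⊗ₜ[G.inv] m : A' ⊗[G.inv] M) = (a ⊗ₜ 1) * (1 ⊗ₜ m) by simp, map_mul, map_mul,
        ← mul_assoc, hgen, mul_assoc]
      congr 2
      · simp [ψ, Algebra.TensorProduct.one_def.symm]
      · simp [ψ, h1]
    | add x y hx hy => simp only [map_add, mul_add, hx, hy]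
  have hidem : IsIdempotentElem e := by
    show e * e = e
    conv_lhs => rw [hfix e, hψe, map_one, mul_one]
  have hsf : ∀ x, sT' (fT x) = fBT (sT x) := fun x => by
    induction x with
    | zero => simp
    | tmul a m =>
      have ha : sC' hE (algebraMap A A' a) = fBC hE (sC hE a) := by
        rw [hE.hA]; exact RingHom.congr_fun E.comm_s a
      simp [sT', fT, fBT, sT, ha]
    | add x y hx hy => simp only [map_add, hx, hy]
  have htf : ∀ x, tT' (fT x) = fBT (tT x) := fun x => by
    induction x with
    | zero => simp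
    | tmul a m =>
      have ha : tC' hE (algebraMap A A' a) = fBC hE (tC hE a) := by
        rw [hE.hA]; exact RingHom.congr_fun E.comm_t a
      simp [tT', fT, fBT, tT, ha]
    | add x y hx hy => simp only [map_add, hx, hy]
  -- the pullbacks of `e` by source and target are equal
  have side : ∀ (g : A' →ₐ[G.inv] B') (g₀ : A →ₐ[G.inv] B),
      (∀ x, Algebra.TensorProduct.map g (AlgHom.id G.inv M) (fT x) =
        fBT (Algebra.TensorProduct.map g₀ (AlgHom.id G.inv M) x)) →
      (∀ z, ψB (Algebra.TensorProduct.map g (AlgHom.id G.inv M) z) =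
        Algebra.TensorProduct.map g₀ (AlgHom.id G.inv M) (ψ z)) →
      (∀ (w₁ w₂ : B' →+* (B' ⊗[G.inv] M) ⧸ Ideal.span
          {1 - Algebra.TensorProduct.map g (AlgHom.id G.inv M) e}),
        w₁.comp E.fB = w₂.comp E.fB → (∀ a, w₁ (g a) = w₂ (g a)) → w₁ = w₂) →
      ψB (Algebra.TensorProduct.map g (AlgHom.id G.inv M) e) = 1 ∧
        ∀ z, Algebra.TensorProduct.map g (AlgHom.id G.inv M) e * z =
          Algebra.TensorProduct.map g (AlgHom.id G.inv M) e * fBT (ψB z) := by
    intro g g₀ hgf hψg hext
    set gT := Algebra.TensorProduct.map g (AlgHom.id G.inv M)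
    refine ⟨by rw [hψg, hψe, map_one], ?_⟩
    let mk := Ideal.Quotient.mk (Ideal.span {1 - gT e})
    have hmke : mk (gT e) = 1 := by
      rw [← map_one mk, Ideal.Quotient.eq, Ideal.mem_span_singleton]
      exact ⟨-1, by ring⟩
    have hw : ∀ b, mk (b ⊗ₜ 1) = mk (fBT (ψB (b ⊗ₜ 1))) := RingHom.congr_fun (hext
      (mk.comp Algebra.TensorProduct.includeLeftRingHom)
      ((mk.comp fBT.toRingHom).comp (ψB.toRingHom.comp Algebra.TensorProduct.includeLeftRingHom))
      (RingHom.ext fun b => by
        have hb : φC (E.fB b) = b ⊗ₜ[G.inv] (1 : M) := hφB b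
        show mk (E.fB b ⊗ₜ 1) = mk (fBT (ψB (E.fB b ⊗ₜ 1)))
        rw [show ψB (E.fB b ⊗ₜ[G.inv] (1 : M)) = b ⊗ₜ 1 by
          simp [ψB, hb, Algebra.TensorProduct.one_def.symm]]
        rfl)
      fun a => by
        show mk (g a ⊗ₜ 1) = mk (fBT (ψB (g a ⊗ₜ 1)))
        have hga : (g a ⊗ₜ[G.inv] (1 : M) : B' ⊗[G.inv] M) = gT (a ⊗ₜ 1) := by simp [gT]
        have h := congrArg (fun z => mk (gT z)) (hfix (a ⊗ₜ 1))
        simp only [map_mul, hmke, one_mul] at h
        rw [hga, hψg, ← hgf]
        exact h)
    intro z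
    have hz : mk z = mk (fBT (ψB z)) := by
      induction z with
      | zero => simp
      | tmul b m =>
        rw [show (b ⊗ₜ[G.inv] m : B' ⊗[G.inv] M) = (b ⊗ₜ 1) * (1 ⊗ₜ m) by simp, map_mul, map_mul, map_mul,
          map_mul, hw b]
        congr 1
        congr 1
        simp [ψB, fBT]
      | add x y hx hy => simp only [map_add, hx, hy]
    rw [Ideal.Quotient.eq, Ideal.mem_span_singleton] at hz
    obtain ⟨w, hw'⟩ := hz
    have hie : gT e * gT e = gT e := by rw [← map_mul, hidem.eq]
    linear_combination gT e * hw' - w * hie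
  obtain ⟨h1s, h2s⟩ := side (sC' hE) (sC hE) hsf hψBs fun w₁ w₂ h h' => by
    refine (E.push_s (w₁.comp E.fB) (w₁.comp G'.s) ?_).unique ⟨rfl, rfl⟩
      ⟨h.symm, RingHom.ext fun a => (h' a).symm⟩
    rw [RingHom.comp_assoc, ← E.comm_s, RingHom.comp_assoc]
  obtain ⟨h1t, h2t⟩ := side (tC' hE) (tC hE) htf hψBt fun w₁ w₂ h h' => by
    refine (E.push_t (w₁.comp E.fB) (w₁.comp G'.t) ?_).unique ⟨rfl, rfl⟩
      ⟨h.symm, RingHom.ext fun a => (h' a).symm⟩
    rw [RingHom.comp_assoc, ← E.comm_t, RingHom.comp_assoc]
  have hst : sT' e = tT' e := by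
    have a1 : sT' e * tT' e = sT' e := by rw [h2s (tT' e), h1t, map_one, mul_one]
    have a2 : tT' e * sT' e = tT' e := by rw [h2t (sT' e), h1s, map_one, mul_one]
    rw [← a1, mul_comm, a2]
  -- descend to the invariants
  let i : G'.inv →ₗ[G.inv] A' := (IsScalarTower.toAlgHom G.inv G'.inv A').toLinearMap
  obtain ⟨hinj, hrange⟩ := injective_and_eqLocus_of_flat M i (sC' hE).toLinearMap (tC' hE).toLinearMap
    Subtype.val_injective fun q => by
      constructor
      · exact fun h => ⟨⟨q, h⟩, rfl⟩
      · rintro ⟨y, rfl⟩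
        exact y.2
  have hincl : ∀ z, incl z = i.rTensor M z := fun z => by
    induction z with
    | zero => simp
    | tmul a m => rfl
    | add x y hx hy => simp only [map_add, hx, hy]
  have hrT : ∀ (g : A' →ₐ[G.inv] B') z,
      Algebra.TensorProduct.map g (AlgHom.id G.inv M) z = g.toLinearMap.rTensor M z := fun g z => by
    induction z with
    | zero => simp
    | tmul a m => rfl
    | add x y hx hy => simp only [map_add, hx, hy]
  obtain ⟨ε, hε⟩ := hrange e (by rw [← hrT, ← hrT]; exact hst)
  rw [← hincl] at hε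
  have hinj' : Function.Injective incl := fun x y h => hinj (by rwa [← hincl, ← hincl])
  have h1m : ∀ m : M, ψ (incl (1 ⊗ₜ m)) = 1 ⊗ₜ m := fun m => by simp [ψ, incl]
  refine ⟨ε, hinj' (show incl (ε * ε) = incl ε by rw [map_mul, hε, hidem.eq]),
    by show ψ (incl ε) = 1; rw [hε, hψe], fun z => by show incl ε * z = incl ε * fT (ψ z); rw [hε]; exact hfix z,
    fun m hm => ?_, fun z => ?_⟩
  · have h := congrArg (fun z => ψ (incl z)) hm
    simp only [map_mul, hε, hψe, one_mul, h1m, map_zero] at h
    let j : G.inv →ₗ[G.inv] A := Algebra.linearMap G.inv A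
    obtain ⟨hj, -⟩ := injective_and_eqLocus_of_flat (W := B) M j (sC hE).toLinearMap (tC hE).toLinearMap
      Subtype.val_injective fun q =>
        ⟨fun h => ⟨⟨q, h⟩, rfl⟩, by rintro ⟨y, rfl⟩; exact y.2⟩
    have : j.rTensor M ((TensorProduct.lid G.inv M).symm m) = 0 := by
      rw [TensorProduct.lid_symm_apply, LinearMap.rTensor_tmul]
      simpa [j] using h
    exact (LinearEquiv.map_eq_zero_iff _).mp (hj (this.trans (map_zero _).symm))
  · -- the value of `ψ` on an invariant is invariant
    set a := ψ (incl z)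
    have hz : incl (ε * z) = e * fT a := by rw [map_mul, hε, hfix]
    have hinvz : ∀ y, sT' (incl y) = tT' (incl y) := fun y => by
      induction y with
      | zero => simp
      | tmul c m =>
        have hc : sC' hE (IsScalarTower.toAlgHom G.inv G'.inv A' c) =
            tC' hE (IsScalarTower.toAlgHom G.inv G'.inv A' c) := c.2
        simp only [sT', tT', incl, Algebra.TensorProduct.map_tmul, hc]
      | add x y hx hy => simp only [map_add, hx, hy]
    have hst' : sT a = tT a := by
      have h := congrArg ψB (hinvz (ε * z))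
      rw [hz, map_mul, map_mul, map_mul, map_mul, h1s, h1t, one_mul, one_mul, hsf, htf, hψBf, hψBf] at h
      exact h
    let j : G.inv →ₗ[G.inv] A := Algebra.linearMap G.inv A
    obtain ⟨-, hjr⟩ := injective_and_eqLocus_of_flat (W := B) M j (sC hE).toLinearMap (tC hE).toLinearMap
      Subtype.val_injective fun q =>
        ⟨fun h => ⟨⟨q, h⟩, rfl⟩, by rintro ⟨y, rfl⟩; exact y.2⟩
    have hrT₀ : ∀ (g : A →ₐ[G.inv] B) y,
        Algebra.TensorProduct.map g (AlgHom.id G.inv M) y = g.toLinearMap.rTensor M y := fun g y => by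
      induction y with
      | zero => simp
      | tmul a m => rfl
      | add x y hx hy => simp only [map_add, hx, hy]
    obtain ⟨w, hw⟩ := hjr a (by rw [← hrT₀, ← hrT₀]; exact hst')
    refine ⟨TensorProduct.lid G.inv M w, hinj' ?_⟩
    have ha : a = 1 ⊗ₜ TensorProduct.lid G.inv M w := by
      rw [← hw]
      conv_lhs => rw [← (TensorProduct.lid G.inv M).symm_apply_apply w]
      rw [TensorProduct.lid_symm_apply, LinearMap.rTensor_tmul]
      simp [j]
    rw [hz, map_mul, hε, ha]
    simp [fT, incl]

end EHom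

end GrothLib.GrpdEtale13
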